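import Groth.Agent.SuppCx.ProZero.Global
import Groth.Prelude.Def_Formal2
import Mathlib

/-!
Exact sequences for `H^i_T` and the consequences of pro-vanishing of `H^i_T(IⁿM)`.
-/

set_option autoImplicit false
set_option linter.unusedSectionVars false
set_option linter.style.haveILetI false

universe u

open CategoryTheory CategoryTheory.Limits Opposite
open Groth.LocCohTransform.SupportExt

namespace Groth.SuppCx.ProZero

variable {R : Type u} [CommRing R] {T : Set (PrimeSpectrum R)}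

/-- `H^i_T`. -/
noncomputable abbrev HTF (T : Set (PrimeSpectrum R)) (i : ℕ) : ModuleCat.{u} R ⥤ ModuleCat.{u} R :=
  localCohomology.ofDiagram (Dual2.idealsInDiagram T) i

theorem hι_trans (i : ℕ) (M : ModuleCat.{u} R) {J J' : Dual2.IdealsIn T} (w : J' ⟶ J)
    (α : Abelian.Ext (ModuleCat.of R (R ⧸ J.obj)) M i) :
    hι T i M J' ((Abelian.Ext.mk₀ (itr w)).comp α (zero_add i)) = hι T i M J α := by
  have h1 := ConcreteCategory.congr_hom ((sysCocone T i M).w w.op) (lvl T i M J α)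
  refine Eq.trans ?_ h1
  show _ = (sysCocone T i M).ι.app (op J') ((sys T i M).map w.op (lvl T i M J α))
  rw [lvl_trans i M w]
  rfl

variable {S S' : ShortComplex (ModuleCat.{u} R)}

/-- Exactness in the middle. -/
theorem mem_range_f (hS : S.ShortExact) (i : ℕ) (x : (HTF T i).obj S.X₂) (hx : (HTF T i).map S.g x = 0) :
    ∃ y, (HTF T i).map S.f y = x := by
  obtain ⟨J, α, rfl⟩ := exists_hι i S.X₂ x
  rw [hι_naturality, hι_eq_zero_iff] at hx
  obtain ⟨J', w, hw⟩ := hx
  rw [← Abelian.Ext.comp_assoc _ _ _ (zero_add i) (add_zero i) (by omega)] at hw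
  obtain ⟨β, hβ⟩ := Abelian.Ext.covariant_sequence_exact₂ _ hS _ hw
  exact ⟨hι T i S.X₁ J' β, by rw [hι_naturality, hβ, hι_trans]⟩

/-- When the first map dies one degree up, the third has image in the image of the middle. -/
theorem mem_range_g (hS : S.ShortExact) (hS' : S'.ShortExact) (φ : S ⟶ S') (i : ℕ)
    (h : (HTF T (i + 1)).map φ.τ₁ = 0) (x : (HTF T i).obj S.X₃) :
    ∃ y, (HTF T i).map S'.g y = (HTF T i).map φ.τ₃ x := by
  obtain ⟨J, α, rfl⟩ := exists_hι i S.X₃ x
  have h0 : (HTF T (i + 1)).map φ.τ₁ (hι T (i + 1) S.X₁ J (α.comp hS.extClass rfl)) = 0 := by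
    rw [h]; rfl
  rw [hι_naturality, hι_eq_zero_iff] at h0
  obtain ⟨J', w, hw⟩ := h0
  have hw' : ((Abelian.Ext.mk₀ (itr w)).comp (α.comp (Abelian.Ext.mk₀ φ.τ₃) (add_zero i)) (zero_add i)).comp
      hS'.extClass rfl = 0 := by
    refine Eq.trans ?_ hw
    rw [Abelian.Ext.comp_assoc (a₂₃ := i + 1) _ _ _ (zero_add i) rfl (by omega)]
    congr 1
    rw [Abelian.Ext.comp_assoc (a₂₃ := 1) _ _ _ (add_zero i) (zero_add 1) (by omega),
      ← ShortComplex.ShortExact.extClass_naturality hS hS' φ,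
      ← Abelian.Ext.comp_assoc (a₁₂ := i + 1) _ _ _ rfl (add_zero 1) (by omega)]
  obtain ⟨β, hβ⟩ := Abelian.Ext.covariant_sequence_exact₃ _ hS' _ rfl hw'
  exact ⟨hι T i S'.X₂ J' β, by rw [hι_naturality, hι_naturality, hβ, hι_trans]⟩

/-- Multiplication by a scalar. -/
theorem map_smul_id (i : ℕ) (M : ModuleCat.{u} R) (a : R) (x : (HTF T i).obj M) :
    (HTF T i).map (a • 𝟙 M) x = a • x := by
  obtain ⟨J, α, rfl⟩ := exists_hι i M x
  rw [hι_naturality, ← map_smul]
  congr 1
  rw [Abelian.Ext.mk₀_smul, Abelian.Ext.comp_smul, Abelian.Ext.comp_mk₀_id]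

section Tower

variable {A : Type u} [CommRing A] {I : Ideal A} {M : Type u} [AddCommGroup M] [Module A M]

/-- `0 → IⁿM → M → M/IⁿM → 0`. -/
noncomputable def powSeq (I : Ideal A) (M : Type u) [AddCommGroup M] [Module A M] (n : ℕ) :
    ShortComplex (ModuleCat.{u} A) :=
  ShortComplex.mk (ModuleCat.ofHom (I ^ n • ⊤ : Submodule A M).subtype)
    (ModuleCat.ofHom (I ^ n • ⊤ : Submodule A M).mkQ)
    (ModuleCat.hom_ext (LinearMap.ext fun x => (Submodule.Quotient.mk_eq_zero _).2 x.2))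

theorem powSeq_shortExact (n : ℕ) : (powSeq I M n).ShortExact where
  exact := (ShortComplex.moduleCat_exact_iff _).2 fun x hx =>
    ⟨⟨x, (Submodule.Quotient.mk_eq_zero _).1 hx⟩, rfl⟩
  mono_f := (ModuleCat.mono_iff_injective _).2 Subtype.val_injective
  epi_g := (ModuleCat.epi_iff_surjective _).2 (Submodule.mkQ_surjective _)

/-- The maps of the sequences. -/
noncomputable def powSeqMap {n l : ℕ} (h : n ≤ l) : powSeq I M l ⟶ powSeq I M n where
  τ₁ := incl I M h
  τ₂ := 𝟙 _
  τ₃ := ModuleCat.ofHom (AdicCompletion.transitionMap I M h)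
  comm₁₂ := rfl
  comm₂₃ := rfl

variable {T : Set (PrimeSpectrum A)} {F : ℕ → ℕ} {i : ℕ}

/-- Classes dying in `M/IⁿM` for large `n` vanish. -/
theorem eq_zero_of_map_mkQ (hF : ∀ (m k : ℕ) (h : m ≤ k), F m ≤ k → (HTF T i).map (incl I M h) = 0) {n : ℕ}
    (hn : F 0 ≤ n) (x : (HTF T i).obj (ModuleCat.of A M))
    (hx : (HTF T i).map (powSeq I M n).g x = 0) : x = 0 := by
  obtain ⟨y, rfl⟩ := mem_range_f (powSeq_shortExact n) i x hx
  let f₀ : ModuleCat.of A ↥(I ^ 0 • ⊤ : Submodule A M) ⟶ ModuleCat.of A M :=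
    ModuleCat.ofHom (I ^ 0 • ⊤ : Submodule A M).subtype
  have h : (HTF T i).map (powSeq I M n).f = 0 := by
    refine (congrArg (HTF T i).map (show (powSeq I M n).f = incl I M (Nat.zero_le n) ≫ f₀ from rfl)).trans ?_
    refine (Functor.map_comp _ _ _).trans ?_
    exact (congrArg (· ≫ _) (hF 0 n (Nat.zero_le n) hn)).trans zero_comp
  rw [h]
  rfl

/-- The large images come from `M`. -/
theorem map_transition_mem_range (hF : ∀ (m k : ℕ) (h : m ≤ k), F m ≤ k → (HTF T (i + 1)).map (incl I M h) = 0)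
    {n l : ℕ} (h : n ≤ l) (hl : F n ≤ l) (x : (HTF T i).obj (powSeq I M l).X₃) :
    ∃ y, (HTF T i).map (powSeq I M n).g y = (HTF T i).map (powSeqMap (I := I) (M := M) h).τ₃ x :=
  mem_range_g (powSeq_shortExact l) (powSeq_shortExact n) (powSeqMap h) i (hF n l h hl) x

theorem map_mkQ_transition (H : ModuleCat.{u} A ⥤ ModuleCat.{u} A) {n l : ℕ} (h : n ≤ l)
    (y : H.obj (ModuleCat.of A M)) :
    H.map (powSeqMap (I := I) (M := M) h).τ₃ (H.map (powSeq I M l).g y) = H.map (powSeq I M n).g y :=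
  (LinearMap.congr_fun (congrArg ModuleCat.Hom.hom (H.map_comp (powSeq I M l).g (powSeqMap (I := I) (M := M) h).τ₃)) y).symm.trans
    (LinearMap.congr_fun (congrArg ModuleCat.Hom.hom (congrArg H.map
      (show (powSeq I M l).g ≫ (powSeqMap (I := I) (M := M) h).τ₃ = (powSeq I M n).g from rfl))) y)

/-- `I^(F 0)` kills. -/
theorem pow_smul_eq_zero (hF : ∀ (m k : ℕ) (h : m ≤ k), F m ≤ k → (HTF T i).map (incl I M h) = 0) (a : A)
    (ha : a ∈ I ^ F 0) (x : (HTF T i).obj (ModuleCat.of A M)) : a • x = 0 := by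
  rw [← map_smul_id]
  let m : ModuleCat.of A M ⟶ ModuleCat.of A ↥(I ^ F 0 • ⊤ : Submodule A M) :=
    ModuleCat.ofHom (LinearMap.codRestrict _ (a • LinearMap.id) fun v =>
      Submodule.smul_mem_smul ha (Submodule.mem_top (x := v)))
  let f₀ : ModuleCat.of A ↥(I ^ 0 • ⊤ : Submodule A M) ⟶ ModuleCat.of A M :=
    ModuleCat.ofHom (I ^ 0 • ⊤ : Submodule A M).subtype
  have h : a • 𝟙 (ModuleCat.of A M) = m ≫ incl I M (Nat.zero_le (F 0)) ≫ f₀ :=
    ModuleCat.hom_ext (LinearMap.ext fun v => rfl)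
  rw [h, Functor.map_comp, Functor.map_comp, hF 0 (F 0) (Nat.zero_le _) le_rfl, zero_comp, comp_zero]
  rfl

section Generic

variable (H : ModuleCat.{u} A ⥤ ModuleCat.{u} A)

theorem map_comp_apply' {X Y Z : ModuleCat.{u} A} (f : X ⟶ Y) (g : Y ⟶ Z) (k : X ⟶ Z) (e : k = f ≫ g)
    (z : H.obj X) : H.map k z = H.map g (H.map f z) := by
  subst e
  rw [H.map_comp]
  rfl

theorem map_transition_step {n l : ℕ} (h : n + 1 ≤ l + 1) (h' : n + 1 ≤ l + 1 + 1)
    (z : H.obj (ModuleCat.of A (Formal2.quotPow A I M (l + 1)))) :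
    H.map (ModuleCat.ofHom (AdicCompletion.transitionMap I M h')) z =
      H.map (ModuleCat.ofHom (AdicCompletion.transitionMap I M h))
        (H.map (ModuleCat.ofHom (Formal2.quotPowTrans A I M l)) z) := by
  have hlin : AdicCompletion.transitionMap I M h' =
      AdicCompletion.transitionMap I M h ∘ₗ Formal2.quotPowTrans A I M l := by
    refine Submodule.linearMap_qext _ (LinearMap.ext fun x => ?_)
    simp [Formal2.quotPowTrans]
  exact map_comp_apply' H _ _ _ (by rw [hlin]; rfl) z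

theorem map_transition_self {n : ℕ} (h : n + 1 ≤ n + 1)
    (z : H.obj (ModuleCat.of A (Formal2.quotPow A I M n))) :
    H.map (ModuleCat.ofHom (AdicCompletion.transitionMap I M h)) z = z := by
  have hlin : AdicCompletion.transitionMap I M h = LinearMap.id := by
    refine Submodule.linearMap_qext _ (LinearMap.ext fun x => ?_)
    simp
  rw [hlin, ModuleCat.ofHom_id, H.map_id]
  rfl

theorem map_transition_family (y : ∀ n : ℕ, H.obj (ModuleCat.of A (Formal2.quotPow A I M n)))
    (hy : ∀ n : ℕ, H.map (ModuleCat.ofHom (Formal2.quotPowTrans A I M n)) (y (n + 1)) = y n) (n : ℕ) :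
    ∀ (k : ℕ) (h : n + 1 ≤ k + 1),
      H.map (ModuleCat.ofHom (AdicCompletion.transitionMap I M h)) (y k) = y n := by
  intro k
  induction k with
  | zero =>
    intro h
    obtain rfl : n = 0 := by omega
    exact map_transition_self H h (y 0)
  | succ k ih =>
    intro h
    rcases Nat.lt_or_ge n (k + 1) with hlt | hge
    · rw [map_transition_step H (Nat.succ_le_succ (Nat.le_of_lt_succ hlt)) h, hy k, ih]
    · obtain rfl : n = k + 1 := by omega
      exact map_transition_self H h (y (k + 1))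

theorem map_mkQ_transition' {n l : ℕ} (h : n + 1 ≤ l + 1) (x : H.obj (ModuleCat.of A M)) :
    H.map (ModuleCat.ofHom (AdicCompletion.transitionMap I M h))
        (H.map (ModuleCat.ofHom (Formal2.quotPowπ A I M l)) x) =
      H.map (ModuleCat.ofHom (Formal2.quotPowπ A I M n)) x := by
  have hlin : Formal2.quotPowπ A I M n = AdicCompletion.transitionMap I M h ∘ₗ Formal2.quotPowπ A I M l := by
    refine LinearMap.ext fun x => ?_
    simp [Formal2.quotPowπ]
  exact (map_comp_apply' H _ _ _ (by rw [hlin]; rfl) x).symm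

/-- Comparison with the formal limit. -/
theorem exists_formal_lift
    (hinj : ∀ (n : ℕ), F 0 ≤ n → ∀ x, H.map (powSeq I M n).g x = 0 → x = 0)
    (hstep : ∀ (n l : ℕ) (h : n ≤ l), F n ≤ l → ∀ z : H.obj (powSeq I M l).X₃,
      ∃ y, H.map (powSeq I M n).g y = H.map (powSeqMap (I := I) (M := M) h).τ₃ z) (hle : ∀ m, m ≤ F m)
    (y : ∀ n : ℕ, H.obj (ModuleCat.of A (Formal2.quotPow A I M n)))
    (hy : ∀ n : ℕ, H.map (ModuleCat.ofHom (Formal2.quotPowTrans A I M n)) (y (n + 1)) = y n) :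
    ∃ x : H.obj (ModuleCat.of A M),
      ∀ n : ℕ, H.map (ModuleCat.ofHom (Formal2.quotPowπ A I M n)) x = y n := by
  have hlift : ∀ n : ℕ, ∃ x : H.obj (ModuleCat.of A M),
      H.map (ModuleCat.ofHom (Formal2.quotPowπ A I M n)) x = y n := by
    intro n
    have h1 := hle (n + 1)
    have h : n + 1 ≤ F (n + 1) + 1 := by omega
    obtain ⟨x, hx⟩ := hstep (n + 1) (F (n + 1) + 1) h (Nat.le_succ _) (y (F (n + 1)))
    exact ⟨x, hx.trans (map_transition_family H y hy n _ h)⟩
  choose xs hxs using hlift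
  have hcompat : ∀ (n k : ℕ) (h : n ≤ k),
      H.map (ModuleCat.ofHom (Formal2.quotPowπ A I M n)) (xs k) = y n := by
    intro n k h
    rw [← map_transition_family H y hy n k (by omega), ← hxs k, map_mkQ_transition']
  refine ⟨xs (F 0), fun n => ?_⟩
  rcases le_total n (F 0) with h | h
  · exact hcompat n (F 0) h
  · have he : xs (F 0) - xs n = 0 := hinj (F 0 + 1) (Nat.le_succ _) _ (by
      exact (map_sub _ _ _).trans (sub_eq_zero.2 ((hcompat (F 0) (F 0) le_rfl).trans (hcompat (F 0) n h).symm)))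
    rw [sub_eq_zero.1 he]
    exact hxs n

end Generic

end Tower

end Groth.SuppCx.ProZero
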