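import Groth.Agent.SuppCx.ProZero.LocalProZero
import Groth.Agent.SuppCx.CompletionDepth
import Groth.Agent.DualCore.LocalDuality
import Groth.Agent.AdicLinTop.CompletionMap
import Mathlib.RingTheory.Flat.FaithfullyFlat.Basic
import Mathlib

/-!
Descent from the completion, and the passage to local cohomology by duality.
-/

set_option autoImplicit false
set_option linter.unusedSectionVars false
set_option linter.style.haveILetI false

universe u

open CategoryTheory CategoryTheory.Limits IsLocalRing TensorProduct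
open Groth.DualCore

attribute [local instance] HasDerivedCategory.standard
attribute [local instance] Groth.DualCore.homModuleA Groth.DualCore.homTowerA

namespace Groth.SuppCx.ProZero

section BaseChange

variable {A B : Type u} [CommRing A] [IsNoetherianRing A] [CommRing B] [Algebra A B] [Module.Flat A B]

omit [IsNoetherianRing A] in
theorem extInD_naturality {M N : Type u} [AddCommGroup M] [Module A M] [AddCommGroup N] [Module A N]
    (g : M →ₗ[A] N) :
    (extD A B).map (inDmap g) ≫ (extInD (B := B) N).hom = (extInD (B := B) M).hom ≫ inDmap (g.baseChange B) := by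
  have h1 := ((ext A B).mapDerivedCategorySingleFunctor 0).hom.naturality (ModuleCat.ofHom g)
  have h2 : (ext A B).map (ModuleCat.ofHom g) ≫ (extEquiv (B := B) (ModuleCat.of A N)).symm.toModuleIso.hom =
      (extEquiv (B := B) (ModuleCat.of A M)).symm.toModuleIso.hom ≫ ModuleCat.ofHom (g.baseChange B) := by
    refine ModuleCat.hom_ext (LinearMap.ext fun x => ?_)
    obtain ⟨x, rfl⟩ := (extEquiv (B := B) (ModuleCat.of A M)).surjective x
    show (extEquiv (B := B) (ModuleCat.of A N)).symm (((ext A B).map (ModuleCat.ofHom g)).hom (extEquiv _ x)) =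
      g.baseChange B ((extEquiv (B := B) (ModuleCat.of A M)).symm (extEquiv _ x))
    rw [ext_map_extEquiv, LinearEquiv.symm_apply_apply, LinearEquiv.symm_apply_apply]
    rfl
  have h3 := congrArg (DerivedCategory.singleFunctor (ModuleCat.{u} B) 0).map h2
  rw [Functor.map_comp, Functor.map_comp] at h3
  refine (Category.assoc _ _ _).symm.trans ((congrArg (· ≫ _) h1).trans ((Category.assoc _ _ _).trans ?_))
  refine (congrArg (_ ≫ ·) h3).trans ?_
  exact (Category.assoc _ _ _).symm

/-- Naturality of `B ⊗ Hom(M, ω⟦i⟧) ≅ Hom(B ⊗ M, ω_B⟦i⟧)`. -/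
theorem extHomInDEquiv_pre (ω : Dual.D A) (c : ℤ) [DerivedCategory.IsGE ω c] (i : ℤ) {M N : Type u}
    [AddCommGroup M] [Module A M] [Module.Finite A M] [AddCommGroup N] [Module A N] [Module.Finite A N]
    (g : M →ₗ[A] N) (z : B ⊗[A] (Dual.inD A N ⟶ ω⟦i⟧)) :
    extHomInDEquiv (B := B) M ω c i ((Linear.leftComp A (ω⟦i⟧) (inDmap g)).baseChange B z) =
      inDmap (g.baseChange B) ≫ extHomInDEquiv (B := B) N ω c i z := by
  have he : ∀ {M : Type u} [AddCommGroup M] [Module A M] [Module.Finite A M]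
      (z : B ⊗[A] (Dual.inD A M ⟶ ω⟦i⟧)), extHomInDEquiv (B := B) M ω c i z =
      (extInD M).inv ≫ θ _ _ z ≫ (((extD A B).commShiftIso i).app ω).hom := by
    intro M _ _ _ z
    simp [extHomInDEquiv, extHomEquiv, Linear.homCongr, LinearEquiv.ofBijective_apply]
  rw [he, he, θ_pre]
  have hn := extInD_naturality (B := B) g
  rw [← Iso.eq_comp_inv, Category.assoc, ← Iso.inv_comp_eq] at hn
  simp only [← Category.assoc]
  rw [hn]

theorem baseChange_range_le (J : Ideal A) {M N : Type u} [AddCommGroup M] [Module A M] [AddCommGroup N]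
    [Module A N] (g : M →ₗ[A] N) {k : ℕ} (hg : ∀ x, g x ∈ (J ^ k • ⊤ : Submodule A N)) (y : B ⊗[A] M) :
    g.baseChange B y ∈ ((J.map (algebraMap A B)) ^ k • ⊤ : Submodule B (B ⊗[A] N)) := by
  induction y using TensorProduct.induction_on with
  | zero => rw [map_zero]; exact zero_mem _
  | tmul b x =>
    rw [LinearMap.baseChange_tmul]
    refine Submodule.smul_induction_on (hg x) (fun a ha n _ => ?_) fun n n' hn hn' => ?_
    · rw [TensorProduct.tmul_smul, ← algebraMap_smul B a (b ⊗ₜ[A] n)]
      exact Submodule.smul_mem_smul (by rw [← Ideal.map_pow]; exact Ideal.mem_map_of_mem _ ha) trivial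
    · rw [TensorProduct.tmul_add]; exact add_mem hn hn'
  | add x y hx hy => rw [map_add]; exact add_mem hx hy

end BaseChange

theorem inDmap_eq_zero_of_range_le {A : Type u} [CommRing A] {M N : Type u} [AddCommGroup M] [Module A M]
    [AddCommGroup N] [Module A N] (S : Submodule A N) {W : Dual.D A} (e : Dual.inD A N ⟶ W)
    (h : inDmap S.subtype ≫ e = 0) (g : M →ₗ[A] N) (hg : ∀ x, g x ∈ S) : inDmap g ≫ e = 0 := by
  rw [show g = S.subtype ∘ₗ g.codRestrict S hg from rfl, inDmap_comp, Category.assoc, h, comp_zero]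

section Local

variable {B : Type u} [CommRing B] [IsLocalRing B] [IsNoetherianRing B]

theorem degree_congr {R : Type u} [CommRing R] [IsNoetherianRing R] {ω : Dual.D R} (h : Dual.IsDualizing R ω)
    {P Q : PrimeSpectrum R} (e : P = Q) : degree h P = degree h Q := by rw [e]

/-- Classes die on a power of `J` when the completion satisfies the depth conditions. -/
theorem eventually_kill {ω : Dual.D B} (hω : Dual.IsDualizing B ω) (J : Ideal B) (hJ : J ≠ ⊤) (d : ℕ)
    (hd : LocCoh.CdLE B J d) (N : Type u) [AddCommGroup N] [Module B N] [Module.Finite B N] (s : ℕ)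
    (hC : ∀ [IsLocalRing (AdicCompletion J B)] [IsNoetherianRing (AdicCompletion J B)],
      DepthCond (J.map (algebraMap B (AdicCompletion J B))) (AdicCompletion J B ⊗[B] N) s d)
    (j : ℤ) (hj : degree hω (closedPoint B) - (s + 1) ≤ j) (e : Dual.inD B N ⟶ ω⟦j⟧) :
    ∃ k : ℕ, inDmap (J ^ k • (⊤ : Submodule B N) : Submodule B N).subtype ≫ e = 0 := by
  let C := AdicCompletion J B
  haveI : IsNoetherianRing C := Groth.SuppCx.CompletionDepth.isNoetherianRing_completion J
  haveI : IsLocalRing C := Groth.AdicLinTop.CompletionMap.isLocalRing J hJ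
  haveI : IsAdicComplete (J.map (algebraMap B C)) C :=
    Groth.AdicLinTop.CompletionQuot.isAdicComplete_map J (IsNoetherian.noetherian J)
  haveI : Module.Flat B C := inferInstance
  haveI hmax : ((closedPoint C).asIdeal.comap (algebraMap B C)).IsMaximal :=
    @Groth.SuppCx.CompletionDepth.isMaximal_comap B _ _ J _ (maximalIdeal.isMaximal C)
  haveI : IsLocalHom (algebraMap B C) := ((IsLocalRing.local_hom_TFAE (algebraMap B C)).out 0 4).2
    (IsLocalRing.eq_maximalIdeal hmax)
  haveI : Module.FaithfullyFlat B C := Module.FaithfullyFlat.of_flat_of_isLocalHom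
  have hωC := Groth.SuppCx.CompletionDepth.isDualizing_completion J hω
  have hdeg : degree hωC (closedPoint C) = degree hω (closedPoint B) := by
    rw [Groth.SuppCx.CompletionDepth.degree_eq_of_map_le hω hωC (closedPoint C)
      (Groth.SuppCx.CompletionDepth.surjective_mod J)
      (@Groth.SuppCx.CompletionDepth.map_le_of_isMaximal B _ _ J _ (maximalIdeal.isMaximal C))]
    exact degree_congr hω (PrimeSpectrum.ext (IsLocalRing.eq_maximalIdeal hmax))
  obtain ⟨a, b, ha, -⟩ := exists_bounds hω
  let eC : Dual.inD C (C ⊗[B] N) ⟶ ((extD B C).obj ω)⟦j⟧ := extHomInDEquiv (B := C) N ω a j (1 ⊗ₜ[B] e)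
  obtain ⟨k, hk⟩ := eq_zero_of_depthCond hωC (J.map (algebraMap B C)) d (Groth.LocCohBase.cdLE_map C hd)
    (C ⊗[B] N) s hC j (hdeg ▸ hj) eC
  refine ⟨k, ?_⟩
  let g := (J ^ k • (⊤ : Submodule B N) : Submodule B N).subtype
  have h0 : extHomInDEquiv (B := C) _ ω a j ((Linear.leftComp B (ω⟦j⟧) (inDmap g)).baseChange C (1 ⊗ₜ[B] e)) = 0 := by
    rw [extHomInDEquiv_pre]
    exact inDmap_eq_zero_of_range_le _ eC hk _ (baseChange_range_le J g fun x => x.2)
  rw [LinearEquiv.map_eq_zero_iff, LinearMap.baseChange_tmul] at h0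
  exact Module.FaithfullyFlat.tensorProduct_mk_injective (A := B) (B := C) _ (h0.trans (tmul_zero _ _).symm)

/-- A normalised shift is the shift by the degree of the closed point. -/
theorem isNormalized_closedPoint {ω : Dual.D B} (hω : Dual.IsDualizing B ω) :
    Dual.IsNormalized B (ω⟦degree hω (closedPoint B)⟧) := by
  obtain ⟨n, hn, hnt, -⟩ := exists_normalized hω
  suffices n = degree hω (closedPoint B) from this ▸ hn
  refine (degree_iff hω (closedPoint B) n).1 ?_
  let X := Dual.inD B (B ⧸ (closedPoint B).asIdeal) ⟶ ω⟦n⟧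
  haveI : Nontrivial X := hnt
  obtain ⟨P, hP⟩ := Module.nonempty_support_of_nontrivial (R := B) (M := X)
  exact Module.mem_support_iff.1 (Module.mem_support_mono (le_maximalIdeal P.2.ne_top) hP)

omit [IsLocalRing B] [IsNoetherianRing B] in
theorem extDEquiv_postcomp {M N N' : Type u} [AddCommGroup M] [Module B M] [AddCommGroup N] [Module B N]
    [AddCommGroup N'] [Module B N'] (k : ℕ) (g : N →ₗ[B] N')
    (α : Abelian.Ext (ModuleCat.of B M) (ModuleCat.of B N) k) :
    extDEquiv M N' k (α.comp (Abelian.Ext.mk₀ (ModuleCat.ofHom g)) (add_zero k)) =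
      extDEquiv M N k α ≫ (inDmap g)⟦(k : ℤ)⟧' := by
  show (α.comp (Abelian.Ext.mk₀ (ModuleCat.ofHom g)) (add_zero k)).hom = α.hom ≫ (inDmap g)⟦(k : ℤ)⟧'
  rw [Abelian.Ext.comp_hom, Abelian.Ext.mk₀_hom, ShiftedHom.comp_mk₀]

/-- A map vanishing on the dual vanishes on local cohomology. -/
theorem H_map_eq_zero {ω : Dual.D B} (hω : Dual.IsDualizing B ω) {N' N : Type u} [AddCommGroup N'] [Module B N']
    [AddCommGroup N] [Module B N] [Module.Finite B N] (g : N' →ₗ[B] N) (i : ℕ)
    (hv : ∀ v : Dual.inD B N ⟶ ω⟦degree hω (closedPoint B) - i⟧, inDmap g ≫ v = 0) :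
    (localCohomology (maximalIdeal B) i).map (ModuleCat.ofHom g) = 0 := by
  set δ := degree hω (closedPoint B)
  have hω' := isDualizing_shift hω δ
  have hres := hasResidue_of_normalized hω' (isNormalized_closedPoint hω)
  obtain ⟨a, b, hab⟩ := hω'.finite_injective_dimension
  obtain ⟨r⟩ := exists_injRep (ω⟦δ⟧) a b hab
  haveI := r.isGE_self
  obtain ⟨S⟩ := exists_hullSys hres
  have hfin : ∀ j, Module.Finite B (Dual.HD B ((Dual.inD B N)⟦(i : ℤ)⟧) j) := fun j =>
    haveI := finite_HD_inD (A := B) N (i + j)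
    Module.Finite.equiv (HDShiftEquiv (Dual.inD B N) i j (i + j) rfl).symm
  obtain ⟨hinj, -⟩ := HullSys.isBij hres hω'.finite_cohomology r.a r ((Dual.inD B N)⟦(i : ℤ)⟧) hfin (S := S)
  refine ModuleCat.hom_ext (LinearMap.ext fun x => ?_)
  obtain ⟨k, α, rfl⟩ := Groth.LocCohBase.exists_rep (I := maximalIdeal B) i (ModuleCat.of B N') x
  show ((localCohomology (maximalIdeal B) i).map (ModuleCat.ofHom g)).hom _ = 0
  refine (Groth.LocCohBase.ι_naturality i (ModuleCat.ofHom g) α).trans ?_
  let β : Abelian.Ext (Groth.LocCohBase.quotPow (maximalIdeal B) k) (ModuleCat.of B N) i :=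
    α.comp (Abelian.Ext.mk₀ (ModuleCat.ofHom g)) (add_zero i)
  have hu : extDEquiv (Qk B k) N i β = extDEquiv (Qk B k) N' i α ≫ (inDmap g)⟦(i : ℤ)⟧' :=
    extDEquiv_postcomp i g α
  obtain ⟨l, hl, hz⟩ := hinj k (extDEquiv (Qk B k) N i β) (LinearMap.ext fun w => by
    show S.ι k (extDEquiv (Qk B k) N i β ≫ w) = 0
    have hw : (inDmap g)⟦(i : ℤ)⟧' ≫ w = 0 := by
      let v := homShiftLeft (Dual.inD B N) (ω⟦δ⟧) i w
      let v' := homShiftEquiv (Dual.inD B N) ω δ (δ - i) (-i) (by omega) v
      have hv0 : inDmap g ≫ v = 0 := by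
        refine (homShiftEquiv (Dual.inD B N') ω δ (δ - i) (-i) (by omega)).injective ?_
        rw [map_zero]
        refine Eq.trans ?_ (hv v')
        simp [v', homShiftEquiv, Linear.homCongr]
      have hw' : w = (homShiftLeft (Dual.inD B N) (ω⟦δ⟧) i).symm v := (LinearEquiv.symm_apply_apply _ w).symm
      rw [hw']
      refine Eq.trans ?_ ((congrArg (homShiftLeft (Dual.inD B N') (ω⟦δ⟧) i).symm hv0).trans (map_zero _))
      simp [homShiftLeft, Linear.homCongr, shiftHom_apply]
    rw [hu, Category.assoc, hw, comp_zero, map_zero])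
  refine (Groth.LocCohBase.ι_eq_zero_iff _ _ _).2 ⟨l, hl, (extDEquiv (Qk B l) N i).injective ?_⟩
  rw [map_zero]
  exact (extDEquiv_trans N i hl β).trans hz

end Local

end Groth.SuppCx.ProZero
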