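import Groth.Agent.SuppCx.ProZero.Descend
import Groth.Agent.LocCohTransform.SupportTower
import Groth.Agent.SuppCx.DegreeHeight
import Groth.Agent.S8796
import Mathlib

/-!
The system `H^i_T(IⁿM)` is pro-zero for `i ≤ s + 1`.
-/

set_option autoImplicit false
set_option linter.unusedSectionVars false
set_option linter.style.haveILetI false

universe u

open CategoryTheory CategoryTheory.Limits IsLocalRing TensorProduct
open Groth.DualCore Groth.LocCohTransform

attribute [local instance] HasDerivedCategory.standard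
attribute [local instance] Groth.DualCore.homModuleA Groth.DualCore.homTowerA

namespace Groth.SuppCx.ProZero

variable {A : Type u} [CommRing A] [IsNoetherianRing A] (I : Ideal A) (M : Type u) [AddCommGroup M] [Module A M]
  (T : Set (PrimeSpectrum A)) (s d : ℕ)

/-- The hypothesis on chains through `V(I) ∖ T`. -/
def Cond4T : Prop :=
  ∀ p r q : PrimeSpectrum A, p ≤ r → r ≤ q → ¬ I ≤ p.asIdeal → I ≤ r.asIdeal → r ∉ T → q ∈ T →
    (s : ℕ∞) ≤ LocCoh.depth (Localization.AtPrime p.asIdeal) (LocalizedModule p.asIdeal.primeCompl M) ∨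
      ((d + s : ℕ) : WithBot ℕ∞) <
        (LocCoh.depth (Localization.AtPrime p.asIdeal) (LocalizedModule p.asIdeal.primeCompl M) : WithBot ℕ∞) +
          Formal2.dimBetween A p.asIdeal q.asIdeal

/-- The hypothesis in the completions. -/
def Cond6T : Prop :=
  ∀ q : PrimeSpectrum A, q ∈ T → ∀ p' : PrimeSpectrum (AdicCompletion (I.map (algebraMap A (Localization.AtPrime q.asIdeal))) (Localization.AtPrime q.asIdeal)),
    ¬ (I.map (algebraMap A (AdicCompletion (I.map (algebraMap A (Localization.AtPrime q.asIdeal))) (Localization.AtPrime q.asIdeal)))) ≤ p'.asIdeal →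
    (∀ q' : PrimeSpectrum (AdicCompletion (I.map (algebraMap A (Localization.AtPrime q.asIdeal))) (Localization.AtPrime q.asIdeal)),
      p' ≤ q' → (I.map (algebraMap A (AdicCompletion (I.map (algebraMap A (Localization.AtPrime q.asIdeal))) (Localization.AtPrime q.asIdeal)))) ≤ q'.asIdeal → q'.asIdeal.IsMaximal) →
    (s : ℕ∞) < LocCoh.depth (Localization.AtPrime p'.asIdeal) (LocalizedModule p'.asIdeal.primeCompl (AdicCompletion (I.map (algebraMap A (Localization.AtPrime q.asIdeal))) (LocalizedModule q.asIdeal.primeCompl M)))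

variable {I M T s d}

theorem depth_congr' {R : Type u} [CommRing R] [IsNoetherianRing R] (P : PrimeSpectrum R) {X Y : Type u}
    [AddCommGroup X] [Module R X] [Module.Finite R X] [AddCommGroup Y] [Module R Y] [Module.Finite R Y]
    (f : X →ₗ[R] Y) (hf : Function.Injective f) {c : R} (hc : c ∉ P.asIdeal)
    (hcY : ∀ y, c • y ∈ LinearMap.range f) :
    LocCoh.depth (Localization.AtPrime P.asIdeal) (LocalizedModule P.asIdeal.primeCompl X) =
      LocCoh.depth (Localization.AtPrime P.asIdeal) (LocalizedModule P.asIdeal.primeCompl Y) := by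
  refine depth_congr (LinearEquiv.ofBijective (LocalizedModule.map P.asIdeal.primeCompl f)
    ⟨LocalizedModule.map_injective _ f hf, fun w => ?_⟩)
  induction w using LocalizedModule.induction_on with
  | h y t =>
    obtain ⟨x, hx⟩ := hcY y
    refine ⟨LocalizedModule.mk x (⟨c, hc⟩ * t), ?_⟩
    rw [LocalizedModule.map_mk, hx]
    refine LocalizedModule.mk_eq.2 ⟨1, ?_⟩
    simp only [one_smul, Submonoid.smul_def, Submonoid.coe_mul]
    rw [mul_comm, mul_smul]

variable [Module.Finite A M]

theorem depthCond_completion {ω : Dual.D A} (hω : Dual.IsDualizing A ω) (hcd : LocCoh.CdLE A I d)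
    (hTI : T ⊆ PrimeSpectrum.zeroLocus (I : Set A)) (hT : StableUnderSpecialization T)
    (h4 : Cond4T I M T s d) (h6 : Cond6T I M T s) (q : PrimeSpectrum A) (hq : q ∈ T) (m : ℕ)
    [IsLocalRing (AdicCompletion (I.map (algebraMap A (Localization.AtPrime q.asIdeal))) (Localization.AtPrime q.asIdeal))] :
    DepthCond ((I.map (algebraMap A (Localization.AtPrime q.asIdeal))).map (algebraMap (Localization.AtPrime q.asIdeal)
        (AdicCompletion (I.map (algebraMap A (Localization.AtPrime q.asIdeal))) (Localization.AtPrime q.asIdeal))))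
      (AdicCompletion (I.map (algebraMap A (Localization.AtPrime q.asIdeal))) (Localization.AtPrime q.asIdeal)
        ⊗[Localization.AtPrime q.asIdeal] (Localization.AtPrime q.asIdeal ⊗[A] ↥(I ^ m • ⊤ : Submodule A M))) s d := by
  intro P hP
  let B := Localization.AtPrime q.asIdeal
  haveI : IsNoetherianRing B := IsLocalization.isNoetherianRing q.asIdeal.primeCompl _ inferInstance
  let J : Ideal B := I.map (algebraMap A B)
  let C := AdicCompletion J B
  haveI : IsNoetherianRing C := Groth.SuppCx.CompletionDepth.isNoetherianRing_completion J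
  haveI : Module.Flat B C := inferInstance
  haveI : Module.Flat A C := Module.Flat.trans A B C
  have hωB := isDualizing_atPrime q.asIdeal hω
  let N := LocalizedModule q.asIdeal.primeCompl M
  haveI : Module.Finite B N :=
    Module.Finite.of_isLocalizedModule q.asIdeal.primeCompl (LocalizedModule.mkLinearMap q.asIdeal.primeCompl M)
  let θ : AdicCompletion J N ≃ₗ[C] C ⊗[A] M :=
    (AdicCompletion.ofTensorProductEquivOfFiniteNoetherian J N).symm.trans
      ((TensorProduct.AlgebraTensorModule.congr (LinearEquiv.refl C C)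
        (LocalizedModule.equivTensorProduct q.asIdeal.primeCompl M)).trans
        (TensorProduct.AlgebraTensorModule.cancelBaseChange A B C C M))
  haveI : Module.Finite C (AdicCompletion J N) := Module.Finite.equiv θ.symm
  let X := ↥(I ^ m • ⊤ : Submodule A M)
  let incl : X →ₗ[A] M := (I ^ m • ⊤ : Submodule A M).subtype
  let f : C ⊗[B] (B ⊗[A] X) →ₗ[C] AdicCompletion J N := θ.symm.toLinearMap ∘ₗ incl.baseChange C ∘ₗ
    (TensorProduct.AlgebraTensorModule.cancelBaseChange A B C C X).toLinearMap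
  have hf : Function.Injective f :=
    θ.symm.injective.comp ((Module.Flat.lTensor_preserves_injective_linearMap incl Subtype.val_injective).comp
      (TensorProduct.AlgebraTensorModule.cancelBaseChange A B C C X).injective)
  have hmap : J.map (algebraMap B C) = I.map (algebraMap A C) := by
    rw [Ideal.map_map, ← IsScalarTower.algebraMap_eq]
  obtain ⟨a₀, ha₀, ha₀P⟩ : ∃ a ∈ I, algebraMap A C a ∉ P.asIdeal := by
    by_contra hcon
    push Not at hcon
    exact hP (hmap.le.trans (Ideal.map_le_iff_le_comap.2 hcon))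
  have hc : algebraMap A C (a₀ ^ m) ∉ P.asIdeal := by
    rw [map_pow]; exact fun h => ha₀P (P.2.mem_of_pow_mem m h)
  have hrange : ∀ y, algebraMap A C (a₀ ^ m) • y ∈ LinearMap.range f := by
    intro y
    obtain ⟨z, rfl⟩ := θ.symm.surjective y
    have key : ∀ z : C ⊗[A] M, algebraMap A C (a₀ ^ m) • z ∈ LinearMap.range (incl.baseChange C) := by
      intro z
      induction z using TensorProduct.induction_on with
      | zero => rw [smul_zero]; exact zero_mem _
      | tmul c x =>
        refine ⟨c ⊗ₜ[A] (⟨a₀ ^ m • x, Submodule.smul_mem_smul (Ideal.pow_mem_pow ha₀ m) trivial⟩ : X), ?_⟩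
        rw [LinearMap.baseChange_tmul, algebraMap_smul, ← TensorProduct.tmul_smul]
        rfl
      | add x y hx hy => rw [smul_add]; exact add_mem hx hy
    obtain ⟨w, hw⟩ := key z
    refine ⟨(TensorProduct.AlgebraTensorModule.cancelBaseChange A B C C X).symm w, ?_⟩
    rw [← map_smul θ.symm, ← hw]
    simp [f]
  rw [depth_congr' P f hf hc hrange]
  have hle : P ≤ closedPoint C := le_maximalIdeal P.2.ne_top
  have hJm : J.map (algebraMap B C) ≤ maximalIdeal C :=
    @Groth.SuppCx.CompletionDepth.map_le_of_isMaximal B _ _ J _ (maximalIdeal.isMaximal C)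
  refine ⟨fun hy => h6 q hq P (fun h => hP (hmap.le.trans h)) fun q' h1 h2 => ?_, ?_⟩
  · rw [hy q' h1 (hmap.le.trans h2)]
    exact maximalIdeal.isMaximal C
  obtain ⟨c, D, D', hcD, hdep, hD', hD⟩ :=
    Groth.SuppCx.CompletionDepth.exists_depth_formula hωB J N P (closedPoint C) hle hJm
  let PB := PrimeSpectrum.comap (algebraMap B C) P
  let p := PrimeSpectrum.comap (algebraMap A B) PB
  have hpq : p ≤ q := (Ideal.comap_mono (IsLocalRing.le_maximalIdeal PB.2.ne_top)).trans_eq
    (IsLocalization.AtPrime.under_maximalIdeal B q.asIdeal)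
  have hp : ¬ I ≤ p.asIdeal := fun h => hP (Ideal.map_le_iff_le_comap.2 (Ideal.map_le_iff_le_comap.2 h))
  have hdeq : LocCoh.depth (Localization.AtPrime PB.asIdeal) (LocalizedModule PB.asIdeal.primeCompl N) =
      LocCoh.depth (Localization.AtPrime p.asIdeal) (LocalizedModule p.asIdeal.primeCompl M) :=
    Groth.LocCohTransform.depth_localization_localized q.asIdeal.primeCompl _ p.asIdeal rfl M
  have hdep' := hdep.trans (congrArg (· + (c : ℕ∞)) hdeq)
  rw [hdep']
  by_cases hr : ∃ r : PrimeSpectrum A, p ≤ r ∧ r ≤ q ∧ I ≤ r.asIdeal ∧ r ∉ T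
  · obtain ⟨r, hpr, hrq, hIr, hrT⟩ := hr
    have hmQ : (maximalIdeal C).comap (algebraMap B C) = IsLocalRing.maximalIdeal B :=
      IsLocalRing.eq_maximalIdeal
        (@Groth.SuppCx.CompletionDepth.isMaximal_comap B _ _ J _ (maximalIdeal.isMaximal C))
    have hdim : Formal2.dimBetween A p.asIdeal q.asIdeal =
        Formal2.dimBetween B PB.asIdeal (PrimeSpectrum.comap (algebraMap B C) (closedPoint C)).asIdeal := by
      have hu : (PrimeSpectrum.comap (algebraMap B C) (closedPoint C)).asIdeal.primeCompl ≤ IsUnit.submonoid B :=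
        fun x hx => by
          have hx' : x ∉ IsLocalRing.maximalIdeal B := hmQ ▸ hx
          exact not_not.1 hx'
      let e := IsLocalization.atUnits B (PrimeSpectrum.comap (algebraMap B C) (closedPoint C)).asIdeal.primeCompl hu
        (S := Localization.AtPrime (PrimeSpectrum.comap (algebraMap B C) (closedPoint C)).asIdeal)
      show ringKrullDim (B ⧸ p.asIdeal.map (algebraMap A B)) = ringKrullDim _
      refine ringKrullDim_eq_of_ringEquiv (Ideal.quotientEquiv _ _ e.toRingEquiv ?_)
      rw [show p.asIdeal.map (algebraMap A B) = PB.asIdeal from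
        IsLocalization.map_under q.asIdeal.primeCompl B PB.asIdeal]
      congr 1
    have h := h4 p r q hpr hrq hp hIr hrT hq
    rw [hdim, hD] at h
    rw [hD']
    generalize LocCoh.depth (Localization.AtPrime p.asIdeal) (LocalizedModule p.asIdeal.primeCompl M) = x at h ⊢
    rcases h with h | h
    · exact Or.inl (h.trans le_self_add)
    · refine Or.inr (h.trans_eq ?_)
      rw [← hcD, ← WithBot.coe_add, ← WithBot.coe_add, WithBot.coe_inj, Nat.cast_add, add_assoc]
  · push Not at hr
    exact Or.inl ((Groth.Agent.S8796.result A ⟨ω, hω⟩ I d hcd M T hTI hT s h4 h6 p q hpq hp hq hr).le.trans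
      le_self_add)

variable (I M) in
/-- The inclusion `IᵏM ⊆ IᵐM`. -/
noncomputable def incl {m k : ℕ} (h : m ≤ k) :
    ModuleCat.of A ↥(I ^ k • ⊤ : Submodule A M) ⟶ ModuleCat.of A ↥(I ^ m • ⊤ : Submodule A M) :=
  ModuleCat.ofHom (Submodule.inclusion (Submodule.smul_mono_left (Ideal.pow_le_pow_right h)))

omit [IsNoetherianRing A] [Module.Finite A M] in
theorem incl_comp {k l m : ℕ} (h₁ : m ≤ l) (h₂ : l ≤ k) :
    incl I M (h₁.trans h₂) = incl I M h₂ ≫ incl I M h₁ := rfl

omit [IsNoetherianRing A] [Module.Finite A M] in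
theorem mem_pow_smul_top {m k : ℕ} (x : ↥(I ^ (m + k) • ⊤ : Submodule A M)) :
    (incl I M (Nat.le_add_right m k)).hom x ∈
      (I ^ k • ⊤ : Submodule A ↥(I ^ m • ⊤ : Submodule A M)) := by
  have h : (I ^ k • ⊤ : Submodule A ↥(I ^ m • ⊤ : Submodule A M)).map (I ^ m • ⊤ : Submodule A M).subtype =
      I ^ (m + k) • ⊤ := by
    rw [Submodule.map_smul'', Submodule.map_top, Submodule.range_subtype, ← Submodule.smul_assoc,
      smul_eq_mul, ← pow_add, add_comm k m]
  obtain ⟨y, hy, hyx⟩ := (h.ge x.2 : x.1 ∈ Submodule.map _ _)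
  exact (Subtype.ext hyx : y = (incl I M (Nat.le_add_right m k)).hom x) ▸ hy

/-- One step, uniformly on `T`. -/
theorem exists_uniform {ω : Dual.D A} (hω : Dual.IsDualizing A ω) (hcd : LocCoh.CdLE A I d)
    (hTI : T ⊆ PrimeSpectrum.zeroLocus (I : Set A)) (hT : StableUnderSpecialization T)
    (h4 : Cond4T I M T s d) (h6 : Cond6T I M T s) (m : ℕ) :
    ∃ k₀ : ℕ, m ≤ k₀ ∧ ∀ q ∈ T, ∀ i : ℕ, i ≤ s + 1 → ∀ (k : ℕ) (h : m ≤ k), k₀ ≤ k →
      (localCohomology (maximalIdeal (Localization.AtPrime q.asIdeal)) i).map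
        ((SupportExt.loc q).map (incl I M h)) = 0 := by
  classical
  let X := ↥(I ^ m • ⊤ : Submodule A M)
  let g : ∀ k : ℕ, ↥(I ^ k • ⊤ : Submodule A X) →ₗ[A] X := fun k => (I ^ k • ⊤ : Submodule A X).subtype
  obtain ⟨a, b, hab⟩ := hω.finite_injective_dimension
  obtain ⟨a', b', ha', -⟩ := exists_bounds hω
  let K : ∀ j : ℤ, ℕ →o Submodule A (Dual.inD A X ⟶ ω⟦j⟧) := fun j =>
    ⟨fun k => LinearMap.ker (Linear.leftComp A (ω⟦j⟧) (inDmap (g k))), fun k l hkl e he => by
      show inDmap (g l) ≫ e = 0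
      exact inDmap_eq_zero_of_range_le _ e he (g l) fun x =>
        Submodule.smul_mono_left (Ideal.pow_le_pow_right hkl) x.2⟩
  have hstab : ∀ j : ℤ, ∃ n, ∀ k, n ≤ k → K j n = K j k := fun j => by
    haveI := DualVanishing.finite_hom hω X j
    haveI : IsNoetherian A (Dual.inD A X ⟶ ω⟦j⟧) := isNoetherian_of_isNoetherianRing_of_finite A _
    exact monotone_stabilizes_iff_noetherian.2 ‹_› (K j)
  choose n₀ hn₀ using hstab
  let k₁ := (Finset.Icc a b).sup n₀
  refine ⟨m + k₁, Nat.le_add_right _ _, fun q hq i hi k hmk hk => ?_⟩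
  let B := Localization.AtPrime q.asIdeal
  haveI : IsNoetherianRing B := IsLocalization.isNoetherianRing q.asIdeal.primeCompl _ inferInstance
  let J : Ideal B := I.map (algebraMap A B)
  have hJ : J ≠ ⊤ := ne_top_of_le_ne_top (maximalIdeal.isMaximal B).ne_top
    (Ideal.map_le_iff_le_comap.2 ((hTI hq).trans (IsLocalization.AtPrime.under_maximalIdeal B q.asIdeal).ge))
  have hωB := isDualizing_atPrime q.asIdeal hω
  have key : (localCohomology (maximalIdeal B) i).map (ModuleCat.ofHom ((g k₁).baseChange B)) = 0 := by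
    refine H_map_eq_zero hωB _ i fun v => ?_
    obtain ⟨z, rfl⟩ := (extHomInDEquiv (B := B) X ω a' (degree hωB (closedPoint B) - i)).surjective v
    rw [← extHomInDEquiv_pre]
    refine (congrArg _ ?_).trans (map_zero _)
    suffices hmain : ∀ (j : ℤ), degree hωB (closedPoint B) - (s + 1) ≤ j → ∀ z : B ⊗[A] (Dual.inD A X ⟶ ω⟦j⟧),
        (Linear.leftComp A (ω⟦j⟧) (inDmap (g k₁))).baseChange B z = 0 from hmain _ (by omega) z
    intro j hj z
    by_cases hjab : a ≤ j ∧ j ≤ b
    · obtain ⟨n, hn⟩ := eventually_kill hωB J hJ d (Groth.LocCohBase.cdLE_map B hcd) (B ⊗[A] X) s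
        (fun {_} {_} => depthCond_completion hω hcd hTI hT h4 h6 q hq m) j hj
        (extHomInDEquiv (B := B) X ω a' j z)
      have h1 : (Linear.leftComp A (ω⟦j⟧) (inDmap (g n))).baseChange B z = 0 := by
        refine (extHomInDEquiv (B := B) _ ω a' j).injective ?_
        rw [map_zero, extHomInDEquiv_pre]
        exact inDmap_eq_zero_of_range_le _ _ hn _ (baseChange_range_le I (g n) fun x => x.2)
      obtain ⟨w, rfl⟩ := ((Module.Flat.lTensor_exact B
        (LinearMap.exact_subtype_ker_map (Linear.leftComp A (ω⟦j⟧) (inDmap (g n))))) z).1 h1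
      have hle : K j n ≤ K j k₁ := by
        rcases le_total n k₁ with h | h
        · exact (K j).monotone h
        · have hjm : n₀ j ≤ k₁ := Finset.le_sup (f := n₀) (Finset.mem_Icc.2 hjab)
          rw [← hn₀ j k₁ hjm, ← hn₀ j n (hjm.trans h)]
      have h0 : Linear.leftComp A (ω⟦j⟧) (inDmap (g k₁)) ∘ₗ
          (LinearMap.ker (Linear.leftComp A (ω⟦j⟧) (inDmap (g n)))).subtype = 0 :=
        LinearMap.ext fun e => LinearMap.mem_ker.1 (hle e.2)
      show ((Linear.leftComp A (ω⟦j⟧) (inDmap (g k₁))).baseChange B)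
        ((LinearMap.ker (Linear.leftComp A (ω⟦j⟧) (inDmap (g n)))).subtype.baseChange B w) = 0
      rw [← LinearMap.comp_apply, ← LinearMap.baseChange_comp, h0, LinearMap.baseChange_zero, LinearMap.zero_apply]
    · haveI := hab X j (by omega)
      have hz : z = 0 := Subsingleton.elim z 0
      rw [hz, map_zero]
  let h : ↥(I ^ (m + k₁) • ⊤ : Submodule A M) →ₗ[A] ↥(I ^ k₁ • ⊤ : Submodule A X) :=
    LinearMap.codRestrict _ (incl I M (Nat.le_add_right m k₁)).hom fun x => mem_pow_smul_top x
  have hfac : incl I M hmk = incl I M hk ≫ ModuleCat.ofHom h ≫ ModuleCat.ofHom (g k₁) := rfl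
  let X₁ := ↥(I ^ k₁ • ⊤ : Submodule A X)
  let eX₀ : LocalizedModule q.asIdeal.primeCompl X ≃ₗ[B] B ⊗[A] X :=
    LocalizedModule.equivTensorProduct q.asIdeal.primeCompl X
  let eK₀ : LocalizedModule q.asIdeal.primeCompl X₁ ≃ₗ[B] B ⊗[A] X₁ :=
    LocalizedModule.equivTensorProduct q.asIdeal.primeCompl X₁
  have hsq : (SupportExt.loc q).map (ModuleCat.ofHom (g k₁)) =
      (ModuleCat.ofHom eK₀.toLinearMap : ModuleCat.of B (LocalizedModule q.asIdeal.primeCompl X₁) ⟶
          ModuleCat.of B (B ⊗[A] X₁)) ≫ ModuleCat.ofHom ((g k₁).baseChange B) ≫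
        (ModuleCat.ofHom eX₀.symm.toLinearMap : ModuleCat.of B (B ⊗[A] X) ⟶
          ModuleCat.of B (LocalizedModule q.asIdeal.primeCompl X)) := by
    refine ModuleCat.hom_ext (LinearMap.ext fun w => ?_)
    refine eX₀.injective (Eq.trans ?_ (eX₀.apply_symm_apply _).symm)
    induction w using LocalizedModule.induction_on with
    | h x t =>
      show LocalizedModule.equivTensorProduct q.asIdeal.primeCompl X
          (LocalizedModule.map q.asIdeal.primeCompl (g k₁) (LocalizedModule.mk x t)) =
        (g k₁).baseChange B (LocalizedModule.equivTensorProduct q.asIdeal.primeCompl _ (LocalizedModule.mk x t))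
      rw [LocalizedModule.map_mk, LocalizedModule.equivTensorProduct_apply_mk,
        LocalizedModule.equivTensorProduct_apply_mk, LinearMap.baseChange_tmul]
  have hz : (localCohomology (maximalIdeal B) i).map ((SupportExt.loc q).map (ModuleCat.ofHom (g k₁))) = 0 := by
    refine (congrArg (localCohomology (maximalIdeal B) i).map hsq).trans ?_
    refine (Functor.map_comp _ _ _).trans ((congrArg (_ ≫ ·) ((Functor.map_comp _ _ _).trans
      ((congrArg (· ≫ _) key).trans zero_comp))).trans comp_zero)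
  rw [hfac, Functor.map_comp, Functor.map_comp, Functor.map_comp, Functor.map_comp, hz, comp_zero, comp_zero]

theorem exists_chain_bound {ω : Dual.D A} (hω : Dual.IsDualizing A ω) (T : Set (PrimeSpectrum A)) :
    ∃ N : ℕ, ∀ l : LTSeries ↥T, l.length < N := by
  obtain ⟨d₁, d₂, hd⟩ := Groth.SuppCx.exists_degree_bounds hω
  refine ⟨(d₂ - d₁).toNat + 1, fun l => ?_⟩
  have h := DualDegree.length_le hω (fun x : ↥T => x.1) (fun _ _ h => h) l
  have := hd l.last.1
  have := hd l.head.1
  omega

/-- The system `H^i_T(IⁿM)` is pro-zero for `i ≤ s + 1`. -/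
theorem exists_proZero {ω : Dual.D A} (hω : Dual.IsDualizing A ω) (hcd : LocCoh.CdLE A I d)
    (hTI : T ⊆ PrimeSpectrum.zeroLocus (I : Set A)) (hT : StableUnderSpecialization T)
    (h4 : Cond4T I M T s d) (h6 : Cond6T I M T s) :
    ∃ F : ℕ → ℕ, (∀ m, m ≤ F m) ∧ ∀ i : ℕ, i ≤ s + 1 → ∀ (m k : ℕ) (h : m ≤ k), F m ≤ k →
      (localCohomology.ofDiagram (Dual2.idealsInDiagram T) i).map (incl I M h) = 0 := by
  choose m' hm' hkill using exists_uniform hω hcd hTI hT h4 h6
  obtain ⟨N, hN⟩ := exists_chain_bound hω T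
  refine ⟨fun m => m'^[N] m, fun m => SupportExt.iterate_mono_left hm' m (Nat.zero_le N), fun i hi m k h hk => ?_⟩
  let E : ∀ j, InjectiveResolution (ModuleCat.of A ↥(I ^ j • ⊤ : Submodule A M)) := fun j => injectiveResolution _
  refine ModuleCat.hom_ext (LinearMap.ext fun x => ?_)
  obtain ⟨z, hz, hdz, hx⟩ := SupportExt.exists_class (E k) x
  refine (hx (E m) (incl I M h) (SupportExt.lift (E k) (E m) (incl I M h))).2 ?_
  exact SupportExt.map_eq_zero_of_local (fun j => ModuleCat.of A ↥(I ^ j • ⊤ : Submodule A M))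
    (fun {k m} h => incl I M h) (fun {k l m} h₁ h₂ => incl_comp h₁ h₂) i m' hm' N T hT hN
    (fun p hp m k h hk => hkill m p hp i hi k h hk) E m k h hk _ z hz hdz

end Groth.SuppCx.ProZero
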