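import Groth.Agent.LocCohTransform.CompletionHLVT
import Groth.Agent.AdicLinTop.Adic
import Groth.Agent.AdicLinTop.CompletionQuot
import Mathlib

/-!
The Hartshorne–Lichtenbaum vanishing theorem for a local domain complete for the given ideal.
-/

set_option autoImplicit false
set_option linter.unusedSectionVars false
set_option linter.style.haveILetI false

universe u

open IsLocalRing TensorProduct

namespace Groth.SuppCx.ProZero

variable {A : Type u} [CommRing A] [IsLocalRing A] [IsNoetherianRing A]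

local notation "C" => AdicCompletion (maximalIdeal A) A

theorem mem_of_le_sup_pow {R : Type u} [CommRing R] {K p q : Ideal R} {n : ℕ} {x : R} (hx : x ∈ q ^ n)
    (h : q ≤ K ⊔ p) : x ∈ K ^ n ⊔ p := by
  suffices hle : (K ⊔ p) ^ n ≤ K ^ n ⊔ p from hle (Ideal.pow_right_mono h n hx)
  clear hx
  induction n with
  | zero => simp
  | succ n ih =>
    rw [pow_succ, pow_succ]
    refine (Ideal.mul_mono ih le_rfl).trans ?_
    rw [Ideal.sup_mul, Ideal.mul_sup]
    exact sup_le (sup_le le_sup_left (le_sup_of_le_right Ideal.mul_le_right)) (le_sup_of_le_right Ideal.mul_le_left)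

/-- A formal element which is torsion modulo `Jⁿ` is algebraic modulo `Jⁿ`. -/
theorem exists_sub_mem_of_torsion (J : Ideal A) (n l : ℕ) (g : C)
    (hg : ∀ a ∈ maximalIdeal A ^ l, algebraMap A C a * g ∈ (J ^ n).map (algebraMap A C)) :
    ∃ c : A, g - algebraMap A C c ∈ (J ^ n).map (algebraMap A C) := by
  classical
  haveI : Module.Flat A C := AdicCompletion.flat_of_isNoetherian (maximalIdeal A)
  obtain ⟨s, hs⟩ := IsNoetherian.noetherian (maximalIdeal A ^ l)
  let φ : A →ₗ[A] (s → A ⧸ J ^ n) := LinearMap.pi fun i => LinearMap.toSpanSingleton A _ (Ideal.Quotient.mk (J ^ n) i.1)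
  let K := LinearMap.ker φ
  have hK : ∀ k ∈ K, ∀ a ∈ maximalIdeal A ^ l, a * k ∈ J ^ n := by
    intro k hk a ha
    rw [← hs] at ha
    induction ha using Submodule.span_induction with
    | mem x hx =>
      have := congrFun (LinearMap.mem_ker.1 hk) ⟨x, hx⟩
      rw [show φ k ⟨x, hx⟩ = k • Ideal.Quotient.mk (J ^ n) x from rfl, Algebra.smul_def,
        Ideal.Quotient.algebraMap_eq, ← map_mul, Pi.zero_apply, Ideal.Quotient.eq_zero_iff_mem, mul_comm] at this
      exact this
    | zero => rw [zero_mul]; exact zero_mem _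
    | add x y _ _ hx hy => rw [add_mul]; exact add_mem hx hy
    | smul r x _ hx => rw [smul_eq_mul, mul_assoc]; exact (J ^ n).mul_mem_left r hx
  have hex : Function.Exact (K.subtype.lTensor C) (φ.lTensor C) :=
    Module.Flat.lTensor_exact C (LinearMap.exact_subtype_ker_map φ)
  have h0 : φ.lTensor C (g ⊗ₜ[A] (1 : A)) = 0 := by
    apply (TensorProduct.piRight A A C (fun _ : s => A ⧸ J ^ n)).injective
    rw [map_zero]
    funext i
    rw [LinearMap.lTensor_tmul, TensorProduct.piRight_apply, TensorProduct.piRightHom_tmul, Pi.zero_apply]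
    have h1 : φ 1 i = i.1 • (1 : A ⧸ J ^ n) := by
      show (1 : A) • Ideal.Quotient.mk (J ^ n) i.1 = _
      rw [one_smul, Algebra.smul_def, mul_one, Ideal.Quotient.algebraMap_eq]
    show g ⊗ₜ[A] φ 1 i = 0
    rw [h1, ← TensorProduct.smul_tmul]
    have hz : Ideal.Quotient.mk ((J ^ n).map (algebraMap A C)) (i.1 • g) = 0 := by
      rw [Ideal.Quotient.eq_zero_iff_mem, Algebra.smul_def]
      exact hg _ (hs ▸ Submodule.subset_span i.2)
    have := congrArg (Algebra.TensorProduct.quotIdealMapEquivTensorQuot C (J ^ n)) hz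
    rw [map_zero, Algebra.TensorProduct.quotIdealMapEquivTensorQuot_mk] at this
    exact this
  obtain ⟨w, hw⟩ := (hex _).1 h0
  suffices h : ∀ w : C ⊗[A] K, ∃ c : A,
      TensorProduct.rid A C (K.subtype.lTensor C w) - algebraMap A C c ∈ (J ^ n).map (algebraMap A C) by
    obtain ⟨c, hc⟩ := h w
    rw [hw, TensorProduct.rid_tmul, one_smul] at hc
    exact ⟨c, hc⟩
  intro w
  induction w using TensorProduct.induction_on with
  | zero => exact ⟨0, by simp⟩
  | tmul x k =>
    obtain ⟨a, ha⟩ := Groth.AdicLinTop.CompletionQuot.exists_sub_mem (maximalIdeal A)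
      (IsNoetherian.noetherian _) l x
    refine ⟨k.1 * a, ?_⟩
    rw [LinearMap.lTensor_tmul, TensorProduct.rid_tmul, Submodule.subtype_apply, Algebra.smul_def, map_mul, ← mul_sub]
    rw [← Ideal.map_pow] at ha
    revert ha
    generalize x - algebraMap A C a = z
    intro hz
    induction hz using Submodule.span_induction with
    | mem z hz =>
      obtain ⟨b, hb, rfl⟩ := hz
      rw [← map_mul]
      exact Ideal.mem_map_of_mem _ (mul_comm b k.1 ▸ hK k.1 k.2 b hb)
    | zero => rw [mul_zero]; exact zero_mem _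
    | add y z _ _ hy hz => rw [mul_add]; exact add_mem hy hz
    | smul r y _ hy => rw [smul_eq_mul, mul_left_comm]; exact Ideal.mul_mem_left _ r hy
  | add y z hy hz =>
    obtain ⟨c, hc⟩ := hy
    obtain ⟨d, hd⟩ := hz
    exact ⟨c + d, by rw [map_add, map_add, map_add, add_sub_add_comm]; exact add_mem hc hd⟩

/-- A formal element which is torsion modulo every power of `J` is algebraic. -/
theorem exists_eq_of_torsion (J : Ideal A) [IsAdicComplete J A] (g : C)
    (hg : ∀ n : ℕ, ∃ l : ℕ, ∀ a ∈ maximalIdeal A ^ l, algebraMap A C a * g ∈ (J ^ n).map (algebraMap A C)) :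
    ∃ c : A, g = algebraMap A C c := by
  haveI : Module.Flat A C := AdicCompletion.flat_of_isNoetherian (maximalIdeal A)
  haveI : Module.FaithfullyFlat A C := Module.FaithfullyFlat.of_flat_of_isLocalHom
  haveI := Groth.LocCohTransform.HLVT.isNoetherianRing_completion A
  choose c hc using fun n => (hg n).elim fun l hl => exists_sub_mem_of_torsion J n l g hl
  have hcauchy : ∀ {m n : ℕ}, m ≤ n → c m ≡ c n [SMOD (J ^ m • ⊤ : Submodule A A)] := by
    intro m n hmn
    rw [SModEq.sub_mem, smul_eq_mul, Ideal.mul_top]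
    rw [← Ideal.comap_map_eq_self_of_faithfullyFlat (B := C) (J ^ m)]
    show algebraMap A C (c m - c n) ∈ (J ^ m).map (algebraMap A C)
    have := sub_mem (Ideal.map_mono (Ideal.pow_le_pow_right hmn) (hc n)) (hc m)
    rwa [sub_sub_sub_cancel_left, ← map_sub] at this
  obtain ⟨c₀, hc₀⟩ := IsPrecomplete.prec (I := J) (M := A) inferInstance hcauchy
  refine ⟨c₀, sub_eq_zero.1 ?_⟩
  have hJ : (J.map (algebraMap A C)) ≤ (⊥ : Ideal C).jacobson := by
    rw [IsLocalRing.jacobson_eq_maximalIdeal ⊥ bot_ne_top, AdicCompletion.maximalIdeal_eq_map]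
    exact Ideal.map_mono (IsAdicComplete.le_jacobson_bot J |>.trans
      (IsLocalRing.jacobson_eq_maximalIdeal ⊥ bot_ne_top).le)
  haveI := IsHausdorff.of_le_jacobson (J.map (algebraMap A C)) C hJ
  refine IsHausdorff.haus' (I := J.map (algebraMap A C)) _ fun n => ?_
  rw [SModEq.zero, smul_eq_mul, Ideal.mul_top, ← Ideal.map_pow]
  have h1 := hc₀ n
  rw [SModEq.sub_mem, smul_eq_mul, Ideal.mul_top] at h1
  have h2 := add_mem (hc n) (Ideal.mem_map_of_mem (algebraMap A C) h1)
  rwa [map_sub, sub_add_sub_cancel] at h2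

/-- Hartshorne–Lichtenbaum for a domain complete along the ideal. -/
theorem subsingleton_H_top [IsDomain A] (J : Ideal A) [IsAdicComplete J A] {d : ℕ}
    (hd : ringKrullDim A = (d : ℕ)) (hJ : 0 < ringKrullDim (A ⧸ J)) : Subsingleton (LocCoh.H J d A) := by
  haveI : Module.Flat A C := AdicCompletion.flat_of_isNoetherian (maximalIdeal A)
  haveI : Module.FaithfullyFlat A C := Module.FaithfullyFlat.of_flat_of_isLocalHom
  haveI := Groth.LocCohTransform.HLVT.isNoetherianRing_completion A
  have hJm : J ≤ maximalIdeal A := (IsAdicComplete.le_jacobson_bot J).trans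
    (IsLocalRing.jacobson_eq_maximalIdeal ⊥ bot_ne_top).le
  refine Groth.LocCohTransform.HLVT.subsingleton_H_of_completion A J d hd fun p hp hpd => ?_
  haveI := hp.1.1
  by_contra hlt
  have hne : J.map (algebraMap A C) ⊔ p ≠ ⊤ := by
    refine ne_top_of_le_ne_top (maximalIdeal.isMaximal C).ne_top (sup_le ?_ (le_maximalIdeal Ideal.IsPrime.ne_top'))
    rw [AdicCompletion.maximalIdeal_eq_map]
    exact Ideal.map_mono hJm
  have hle : ringKrullDim (C ⧸ (J.map (algebraMap A C) ⊔ p)) ≤ 0 := by
    obtain ⟨k, hk⟩ := Groth.LocCohTransform.DimCd.exists_nat_dim (A := C) hne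
    rw [hk] at hlt ⊢
    have : k < 1 := by
      by_contra hc
      exact hlt (by exact_mod_cast (show 1 ≤ k by omega))
    exact_mod_cast (show k ≤ 0 by omega)
  obtain ⟨l, hl⟩ := Ideal.exists_pow_le_of_le_radical_of_fg
    (Groth.LocCohTransform.DimCd.radical_eq_maximalIdeal hne hle).ge (IsNoetherian.noetherian _)
  rw [(maximalIdeal.isMaximal C).isPrime.radical] at hl
  have hpA : p ∈ associatedPrimes C C := Module.associatedPrimes.minimalPrimes_annihilator_subset_associatedPrimes
    (R := C) (M := C) (by rwa [Module.annihilator_eq_bot.2 inferInstance])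
  obtain ⟨-, g, hg⟩ := isAssociatedPrime_iff.1 hpA
  have hpg : ∀ x ∈ p, x * g = 0 := fun x hx => by
    have := Submodule.mem_colon_singleton.1 (hg ▸ hx)
    simpa using this
  obtain ⟨c, hc⟩ := exists_eq_of_torsion J g fun n => ⟨l * n, fun a ha => by
    have h1 : algebraMap A C a ∈ (J.map (algebraMap A C)) ^ n ⊔ p := by
      have h2 : algebraMap A C a ∈ maximalIdeal C ^ (l * n) := by
        rw [AdicCompletion.maximalIdeal_eq_map, ← Ideal.map_pow]
        exact Ideal.mem_map_of_mem _ ha
      rw [pow_mul] at h2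
      exact mem_of_le_sup_pow h2 hl
    obtain ⟨u, hu, v, hv, huv⟩ := Submodule.mem_sup.1 h1
    rw [← huv, add_mul, hpg v hv, add_zero, Ideal.map_pow]
    exact Ideal.mul_mem_right _ _ hu⟩
  have hc0 : c ≠ 0 := by
    rintro rfl
    rw [map_zero] at hc
    refine (Ideal.IsPrime.ne_top' : p ≠ ⊤) ((Ideal.eq_top_iff_one p).2 ?_)
    rw [hg, Submodule.mem_colon_singleton, hc, smul_zero]
    exact zero_mem _
  have hreg : IsSMulRegular C c := IsSMulRegular.of_flat (IsSMulRegular.of_ne_zero (M := A) hc0)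
  have hp0 : p = ⊥ := by
    refine le_bot_iff.1 fun x hx => (Submodule.mem_bot C).2 (hreg.right_eq_zero_of_smul ?_)
    rw [Algebra.smul_def, ← hc, mul_comm]
    exact hpg x hx
  subst hp0
  rw [sup_bot_eq] at hl
  have hcon : maximalIdeal A ^ l ≤ J := by
    rw [← Ideal.comap_map_eq_self_of_faithfullyFlat (B := C) J, ← Ideal.map_le_iff_le_comap, Ideal.map_pow,
      ← AdicCompletion.maximalIdeal_eq_map]
    exact hl
  haveI : Ring.KrullDimLE 0 (A ⧸ J) := Ring.KrullDimLE.mk₀ fun x hx => by
    haveI := hx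
    have h := (maximalIdeal.isMaximal A)
    have hxm : maximalIdeal A ≤ x.comap (Ideal.Quotient.mk J) :=
      Ideal.IsPrime.le_of_pow_le (hcon.trans fun a ha => by
        rw [Ideal.mem_comap, Ideal.Quotient.eq_zero_iff_mem.2 ha]; exact zero_mem _)
    have heq : x.comap (Ideal.Quotient.mk J) = maximalIdeal A :=
      le_antisymm (le_maximalIdeal (Ideal.IsPrime.ne_top inferInstance)) hxm
    haveI : (x.comap (Ideal.Quotient.mk J)).IsMaximal := heq ▸ h
    have h2 := Ideal.map_comap_of_surjective _ Ideal.Quotient.mk_surjective x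
    rcases Ideal.map_eq_top_or_isMaximal_of_surjective (Ideal.Quotient.mk J) Ideal.Quotient.mk_surjective this with h3 | h3
    · exact absurd (h2.symm.trans h3) hx.ne_top
    · rwa [h2] at h3
  exact absurd hJ (not_lt.2 Order.KrullDimLE.krullDim_le)

end Groth.SuppCx.ProZero
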