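import Groth.Agent.DualCore.Devissage
import Groth.Agent.DualCore.DevissageHom
import Groth.Agent.DualCore.Regular
import Groth.Agent.LocCohBase.Basic
import Groth.Agent.LocCohBase.Torsion
import Mathlib

/-!
`colim_k Hom(Jᵏ, Y⟦j⟧) = 0` for complexes with suitable cohomology.
-/

set_option autoImplicit false
set_option linter.unusedSectionVars false
set_option linter.style.haveILetI false

universe u

open CategoryTheory CategoryTheory.Limits CategoryTheory.Pretriangulated DerivedCategory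
open Groth.DualCore

attribute [local instance] HasDerivedCategory.standard

namespace Groth.SuppCx.ProZero

variable {A : Type u} [CommRing A]

/-- The inclusion of powers. -/
noncomputable def incPow (J : Ideal A) {n k : ℕ} (h : n ≤ k) : ↥(J ^ k) →ₗ[A] ↥(J ^ n) :=
  Submodule.inclusion (Ideal.pow_le_pow_right h)

theorem incPow_comp (J : Ideal A) {n k l : ℕ} (h : n ≤ k) (h' : k ≤ l) :
    incPow J h ∘ₗ incPow J h' = incPow J (h.trans h') := rfl

/-- Every map `Jⁿ⟦-j⟧ → Y` dies on a smaller power. -/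
def Dies (J : Ideal A) (j : ℤ) (Y : Dual.D A) : Prop :=
  ∀ (n : ℕ) (f : (Dual.inD A ↥(J ^ n))⟦-j⟧ ⟶ Y),
    ∃ (k : ℕ) (h : n ≤ k), (inDmap (incPow J h))⟦-j⟧' ≫ f = 0

theorem Dies.of_iso {J : Ideal A} {j : ℤ} {X Y : Dual.D A} (e : X ≅ Y) (h : Dies J j X) : Dies J j Y :=
  fun n f => by
    obtain ⟨k, hk, hz⟩ := h n (f ≫ e.inv)
    refine ⟨k, hk, ?_⟩
    rw [← cancel_mono e.inv, Category.assoc, hz, zero_comp]

theorem Dies.ext {J : Ideal A} {j : ℤ} (T : Triangle (Dual.D A)) (hT : T ∈ distTriang (Dual.D A))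
    (h₁ : Dies J j T.obj₁) (h₃ : Dies J j T.obj₃) : Dies J j T.obj₂ := fun n f => by
  obtain ⟨k, hk, hz⟩ := h₃ n (f ≫ T.mor₂)
  obtain ⟨g, hg⟩ := T.coyoneda_exact₂ hT ((inDmap (incPow J hk))⟦-j⟧' ≫ f) (by rw [Category.assoc, hz])
  obtain ⟨l, hl, hz'⟩ := h₁ k g
  refine ⟨l, hk.trans hl, ?_⟩
  rw [← incPow_comp J hk hl, inDmap_comp, Functor.map_comp, Category.assoc, hg, ← Category.assoc, hz', zero_comp]

theorem Dies.zero {J : Ideal A} {j : ℤ} (X : Dual.D A) (hX : IsZero X) : Dies J j X :=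
  fun n _ => ⟨n, le_rfl, hX.eq_of_tgt _ _⟩

/-- A module in degree `t` through the classes of degree `j - t`. -/
theorem dies_single (J : Ideal A) (F : Type u) [AddCommGroup F] [Module A F] (j t : ℤ)
    (h : ∀ (a : ℕ), (a : ℤ) = j - t → ∀ (n : ℕ) (α : Abelian.Ext (ModuleCat.of A ↥(J ^ n)) (ModuleCat.of A F) a),
      ∃ (k : ℕ) (hk : n ≤ k), (Abelian.Ext.mk₀ (ModuleCat.ofHom (incPow J hk))).comp α (zero_add a) = 0) :
    Dies J j ((singleFunctor (ModuleCat.{u} A) t).obj (ModuleCat.of A F)) := by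
  let adj := (shiftEquiv' (Dual.D A) (-j) j (neg_add_cancel j)).toAdjunction
  let e : ((singleFunctor (ModuleCat.{u} A) t).obj (ModuleCat.of A F))⟦j⟧ ≅ (Dual.inD A F)⟦j - t⟧ :=
    (shiftFunctorAdd' (Dual.D A) t (j - t) j (by omega)).app _ ≪≫
      (shiftFunctor (Dual.D A) (j - t)).mapIso (singleShiftIso F t)
  intro n f
  let g : Dual.inD A ↥(J ^ n) ⟶ (Dual.inD A F)⟦j - t⟧ := adj.homEquiv _ _ f ≫ e.hom
  suffices hs : ∃ (k : ℕ) (hk : n ≤ k), inDmap (incPow J hk) ≫ g = 0 by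
    obtain ⟨k, hk, hz⟩ := hs
    refine ⟨k, hk, (adj.homEquiv _ _).injective ?_⟩
    have hz' : inDmap (incPow J hk) ≫ adj.homEquiv _ _ f = 0 := by
      refine (cancel_mono e.hom).1 ?_
      exact (Category.assoc _ _ _).trans (hz.trans zero_comp.symm)
    refine (adj.homEquiv_naturality_left (inDmap (incPow J hk)) f).trans (hz'.trans ?_)
    rw [adj.homEquiv_unit]
    show (0 : _ ⟶ _) = _ ≫ (shiftFunctor (Dual.D A) j).map 0
    rw [Functor.map_zero, comp_zero]
  rcases lt_or_ge (j - t) 0 with hneg | hpos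
  · haveI := subsingleton_hom_inD_of_neg (A := A) ↥(J ^ n) F (j - t) hneg
    exact ⟨n, le_rfl, by rw [Subsingleton.elim g 0, comp_zero]⟩
  · obtain ⟨a, ha⟩ := Int.eq_ofNat_of_zero_le hpos
    clear_value g
    revert g
    rw [ha]
    intro g
    obtain ⟨α, rfl⟩ := (extDEquiv ↥(J ^ n) F a).surjective g
    obtain ⟨k, hk, hz⟩ := h a ha.symm n α
    refine ⟨k, hk, ?_⟩
    rw [← extDEquiv_precomp, hz, map_zero]

variable [IsNoetherianRing A]

/-- The sequence `0 → Jⁿ → A → A/Jⁿ → 0`. -/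
theorem shortExact_pow (J : Ideal A) (n : ℕ) :
    (ShortComplex.mk (ModuleCat.ofHom (J ^ n).subtype)
      (ModuleCat.ofHom (Submodule.mkQ (J ^ n)) : ModuleCat.of A A ⟶ Groth.LocCohBase.quotPow J n)
      (by ext x; exact (Submodule.Quotient.mk_eq_zero _).2 x.2)).ShortExact where
  exact := (ShortComplex.moduleCat_exact_iff _).2 fun x hx =>
    ⟨⟨x, (Submodule.Quotient.mk_eq_zero _).1 hx⟩, rfl⟩
  mono_f := (ModuleCat.mono_iff_injective _).2 Subtype.val_injective
  epi_g := (ModuleCat.epi_iff_surjective _).2 (Submodule.mkQ_surjective _)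

/-- Degree `a ≥ 1` is killed by `H^{a+1}_J`. -/
theorem ext_dies (J : Ideal A) (F : Type u) [AddCommGroup F] [Module A F] (a : ℕ) (ha : 0 < a)
    (hH : Subsingleton (LocCoh.H J (a + 1) F)) (n : ℕ)
    (α : Abelian.Ext (ModuleCat.of A ↥(J ^ n)) (ModuleCat.of A F) a) :
    ∃ (k : ℕ) (hk : n ≤ k), (Abelian.Ext.mk₀ (ModuleCat.ofHom (incPow J hk))).comp α (zero_add a) = 0 := by
  have hβ : Groth.LocCohBase.ι J (a + 1) (ModuleCat.of A F) n ((shortExact_pow J n).extClass.comp α (by omega)) = 0 :=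
    hH.elim _ _
  obtain ⟨k, hk, hz⟩ := (Groth.LocCohBase.ι_eq_zero_iff _ _ _).1 hβ
  refine ⟨k, hk, ?_⟩
  let φ : ShortComplex.mk (ModuleCat.ofHom (J ^ k).subtype)
      (ModuleCat.ofHom (Submodule.mkQ (J ^ k)) : ModuleCat.of A A ⟶ Groth.LocCohBase.quotPow J k)
      (by ext x; exact (Submodule.Quotient.mk_eq_zero _).2 x.2) ⟶
    ShortComplex.mk (ModuleCat.ofHom (J ^ n).subtype)
      (ModuleCat.ofHom (Submodule.mkQ (J ^ n)) : ModuleCat.of A A ⟶ Groth.LocCohBase.quotPow J n)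
      (by ext x; exact (Submodule.Quotient.mk_eq_zero _).2 x.2) :=
    { τ₁ := ModuleCat.ofHom (incPow J hk)
      τ₂ := 𝟙 _
      τ₃ := Groth.LocCohBase.trans J hk
      comm₁₂ := rfl
      comm₂₃ := rfl }
  have hnat := ShortComplex.ShortExact.extClass_naturality (shortExact_pow J k) (shortExact_pow J n) φ
  have h0 : (shortExact_pow J k).extClass.comp
      ((Abelian.Ext.mk₀ (ModuleCat.ofHom (incPow J hk))).comp α (zero_add a)) (show 1 + a = a + 1 by omega) = 0 := by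
    rw [← Abelian.Ext.comp_assoc (a₁₂ := 1) _ _ _ (by omega) (by omega) (by omega)]
    refine (congrArg (fun e => Abelian.Ext.comp e α _) hnat).trans ?_
    show ((Abelian.Ext.mk₀ (Groth.LocCohBase.trans J hk)).comp (shortExact_pow J n).extClass (zero_add 1)).comp α _ = 0
    rw [Abelian.Ext.comp_assoc (a₂₃ := a + 1) _ _ _ (by omega) (by omega) (by omega)]
    exact hz
  have hex := Abelian.Ext.contravariant_sequence_exact₁' (shortExact_pow J k) (ModuleCat.of A F) a (a + 1) (by omega)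
  rw [ShortComplex.ab_exact_iff] at hex
  obtain ⟨γ, hγ⟩ := hex _ h0
  haveI : Projective (ModuleCat.of A A) := (IsProjective.iff_projective (R := A) A).1 inferInstance
  obtain ⟨a', rfl⟩ : ∃ a', a = a' + 1 := ⟨a - 1, by omega⟩
  have : γ = 0 := Abelian.Ext.eq_zero_of_projective γ
  rw [← hγ, this]
  exact map_zero _

/-- Torsion modules in degree `0`. -/
theorem hom_dies (J : Ideal A) (F : Type u) [AddCommGroup F] [Module A F] (hF : LocCoh.IsPowerTorsion J F) (n : ℕ)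
    (α : Abelian.Ext (ModuleCat.of A ↥(J ^ n)) (ModuleCat.of A F) 0) :
    ∃ (k : ℕ) (hk : n ≤ k), (Abelian.Ext.mk₀ (ModuleCat.ofHom (incPow J hk))).comp α (zero_add 0) = 0 := by
  classical
  obtain ⟨g, rfl⟩ := (Abelian.Ext.mk₀_bijective _ _).2 α
  obtain ⟨s, hs⟩ := (Module.Finite.fg_top : (⊤ : Submodule A ↥(J ^ n)).FG)
  choose e he using fun x : ↥(J ^ n) => hF (g.hom x)
  let N := s.sup e
  have hkill : ∀ a ∈ J ^ N, ∀ x : ↥(J ^ n), a • g.hom x = 0 := by
    intro a ha x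
    have hx : x ∈ Submodule.span A (s : Set ↥(J ^ n)) := hs ▸ Submodule.mem_top
    induction hx using Submodule.span_induction with
    | mem z hz => exact he z a (Ideal.pow_le_pow_right (Finset.le_sup hz) ha)
    | zero => rw [map_zero, smul_zero]
    | add y z _ _ hy hz => rw [map_add, smul_add, hy, hz, add_zero]
    | smul r y _ hy => rw [map_smul, smul_comm, hy, smul_zero]
  refine ⟨N + n, by omega, ?_⟩
  rw [Abelian.Ext.mk₀_comp_mk₀, Abelian.Ext.mk₀_eq_zero_iff]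
  refine ModuleCat.hom_ext (LinearMap.ext fun ⟨x, hx⟩ => ?_)
  show g.hom ⟨x, _⟩ = 0
  have hx' : x ∈ J ^ N * J ^ n := by rwa [← pow_add]
  have key : ∀ y ∈ J ^ N * J ^ n, ∃ hy : y ∈ J ^ n, g.hom ⟨y, hy⟩ = 0 := by
    intro y hy
    refine Submodule.mul_induction_on hy (fun a ha b hb => ?_) ?_
    · refine ⟨(J ^ n).mul_mem_left a hb, ?_⟩
      have : (⟨a * b, (J ^ n).mul_mem_left a hb⟩ : ↥(J ^ n)) = a • ⟨b, hb⟩ := rfl
      rw [this, map_smul, hkill a ha]
    · rintro y z ⟨hy, hy0⟩ ⟨hz, hz0⟩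
      refine ⟨add_mem hy hz, ?_⟩
      rw [show (⟨y + z, add_mem hy hz⟩ : ↥(J ^ n)) = ⟨y, hy⟩ + ⟨z, hz⟩ from rfl, map_add, hy0, hz0, add_zero]
  exact (key x hx').2

/-- Dévissage with conditions depending on the degree. -/
theorem devissage_deg (G : ℤ → ModuleCat.{u} A → Prop)
    (Giso : ∀ {M N : ModuleCat.{u} A} (n : ℤ), (M ≅ N) → G n M → G n N)
    (P : Dual.D A → Prop) (iso : ∀ {X Y : Dual.D A}, (X ≅ Y) → P X → P Y)
    (zero : ∀ X : Dual.D A, IsZero X → P X)
    (ext : ∀ T ∈ distTriang (Dual.D A), P T.obj₁ → P T.obj₃ → P T.obj₂) (a : ℤ)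
    (single : ∀ (M : ModuleCat.{u} A) (n : ℤ), G n M → P ((singleFunctor (ModuleCat.{u} A) n).obj M))
    (X : Dual.D A) (b : ℤ) [IsGE X a] [IsLE X b]
    (hfin : ∀ i, G i ((homologyFunctor (ModuleCat.{u} A) i).obj X)) : P X := by
  suffices ∀ (k : ℕ) (X : Dual.D A) (b : ℤ), b < a + k → IsGE X a → IsLE X b →
      (∀ i, i ≤ b → G i ((homologyFunctor (ModuleCat.{u} A) i).obj X)) → P X from
    this (b - a + 1).toNat X b (by lia) ‹_› ‹_› fun i _ => hfin i
  intro k
  induction k with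
  | zero => intro X b hb _ _ _; exact zero X (isZero_of_isGE_of_isLE X a b (by simpa using hb))
  | succ k ih =>
    intro X b hb hge hle hfin
    rcases lt_or_ge b a with hlt | hab
    · exact zero X (isZero_of_isGE_of_isLE X a b hlt)
    obtain ⟨T, hT, h1, ⟨e₂⟩, e₁, ⟨e₃⟩⟩ := exists_top_triangle X b (b - 1) (by lia)
    refine iso e₂ (ext T hT ?_ (iso e₃.symm (single _ b (hfin b le_rfl))))
    have hge₁ : IsGE T.obj₁ a := by
      rw [isGE_iff]
      intro i hi
      exact (isZero_of_isGE X a i hi).of_iso (e₁ i (by lia)).some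
    exact ih _ (b - 1) (by lia) hge₁ h1 fun i hib => Giso i (e₁ i (by lia)).some.symm (hfin i (by lia))

/-- The criterion. -/
theorem dies_of_cohomology (J : Ideal A) (j : ℤ) (X : Dual.D A) (a b : ℤ) [IsGE X a] [IsLE X b]
    (h : ∀ t, LocCoh.IsPowerTorsion J (Dual.HD A X t) ∧ (∀ e : ℕ, 0 < e → (e : ℤ) = j - t →
        Subsingleton (LocCoh.H J (e + 1) (Dual.HD A X t))) ∨
      (0 < j - t ∧ ∀ e : ℕ, (e : ℤ) = j - t → Subsingleton (LocCoh.H J (e + 1) (Dual.HD A X t)))) :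
    Dies J j X := by
  refine devissage_deg (fun t M => (LocCoh.IsPowerTorsion J M ∧ (∀ e : ℕ, 0 < e → (e : ℤ) = j - t →
      Subsingleton (LocCoh.H J (e + 1) M))) ∨
      (0 < j - t ∧ ∀ e : ℕ, (e : ℤ) = j - t → Subsingleton (LocCoh.H J (e + 1) M)))
    (fun {M N} n e h => ?_) (Dies J j) (fun e h => h.of_iso e) Dies.zero (fun T hT h₁ h₃ => Dies.ext T hT h₁ h₃) a
    (fun M t hM => ?_) X b h
  · rcases h with ⟨h1, h2⟩ | ⟨h1, h2⟩
    · refine Or.inl ⟨fun x => ?_, fun i hi hi' => ?_⟩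
      · obtain ⟨k, hk⟩ := h1 (e.toLinearEquiv.symm x)
        exact ⟨k, fun c hc => e.toLinearEquiv.symm.injective (by rw [map_smul, hk c hc, map_zero])⟩
      · haveI := h2 i hi hi'
        exact ((localCohomology J (i + 1)).mapIso e.symm).toLinearEquiv.toEquiv.subsingleton
    · refine Or.inr ⟨h1, fun i hi => ?_⟩
      haveI := h2 i hi
      exact ((localCohomology J (i + 1)).mapIso e.symm).toLinearEquiv.toEquiv.subsingleton
  · refine dies_single J M j t fun e he n α => ?_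
    rcases hM with ⟨h1, h2⟩ | ⟨h1, h2⟩
    · rcases Nat.eq_zero_or_pos e with rfl | hpos
      · exact hom_dies J M h1 n α
      · exact ext_dies J M e hpos (h2 e hpos he) n α
    · exact ext_dies J M e (by omega) (h2 e he) n α

end Groth.SuppCx.ProZero
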