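import Groth.Agent.SuppCx.ProZero.HLVTAdic
import Groth.Agent.SuppCx.ProZero.Vanish
import Groth.Agent.LocCohTransform.AlgebraizeApply
import Groth.Agent.LocCohBase.Nonvanishing
import Groth.Agent.AdicLinTop.Adic
import Mathlib

/-!
`colim_k Hom(JᵏN, ω⟦j⟧) = 0` in high degrees for a local ring complete along `J`.
-/

set_option autoImplicit false
set_option linter.unusedSectionVars false
set_option linter.style.haveILetI false

universe u

open CategoryTheory CategoryTheory.Limits CochainComplex CochainComplex.HomComplex IsLocalRing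
open Groth.DualCore Groth.LocCohTransform Groth.LocCohTransform.RgammaCompute

attribute [local instance] HasDerivedCategory.standard

namespace Groth.SuppCx.ProZero

variable {A : Type u} [CommRing A] [IsLocalRing A] [IsNoetherianRing A]

/-- The two conditions on the depths outside `V(J)`. -/
def DepthCond (J : Ideal A) (N : Type u) [AddCommGroup N] [Module A N] (s d : ℕ) : Prop :=
  ∀ P : PrimeSpectrum A, ¬ J ≤ P.asIdeal →
    ((∀ y : PrimeSpectrum A, P ≤ y → J ≤ y.asIdeal → y = closedPoint A) →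
      (s : ℕ∞) < LocCoh.depth (Localization.AtPrime P.asIdeal) (LocalizedModule P.asIdeal.primeCompl N)) ∧
    ((s : ℕ∞) ≤ LocCoh.depth (Localization.AtPrime P.asIdeal) (LocalizedModule P.asIdeal.primeCompl N) ∨
      ((d + s : ℕ) : WithBot ℕ∞) <
        (LocCoh.depth (Localization.AtPrime P.asIdeal) (LocalizedModule P.asIdeal.primeCompl N) : WithBot ℕ∞) +
          Formal2.dimBetween A P.asIdeal (closedPoint A).asIdeal)

theorem le_maximalIdeal_of_complete (J : Ideal A) [IsAdicComplete J A] : J ≤ maximalIdeal A :=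
  (IsAdicComplete.le_jacobson_bot J).trans (IsLocalRing.jacobson_eq_maximalIdeal ⊥ bot_ne_top).le

variable {ω : Dual.D A} (hω : Dual.IsDualizing A ω)

include hω in
/-- Vanishing at `A/P`. -/
theorem subsingleton_H_prime (J : Ideal A) [IsAdicComplete J A] (d : ℕ) (hd : LocCoh.CdLE A J d)
    (P : PrimeSpectrum A) (i n : ℕ) (hn : degree hω (closedPoint A) = degree hω P + n)
    (h : d < i ∨ n < i ∨
      (n = i ∧ ¬ ∀ y : PrimeSpectrum A, P ≤ y → J ≤ y.asIdeal → y = closedPoint A)) :
    Subsingleton (LocCoh.H J i (A ⧸ P.asIdeal)) := by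
  have hle : P ≤ closedPoint A := le_maximalIdeal P.2.ne_top
  have hdim : ringKrullDim (A ⧸ P.asIdeal) = (n : ℕ) := by
    rw [← AlgebraizeApply.dimBetween_closedPoint hω P, DualDegree.dimBetween hω hle hn]
    rfl
  rcases h with h | h | ⟨rfl, hy⟩
  · exact hd _ i h
  · refine Groth.LocCohBase.subsingleton_H_of_supportDim_lt J _ ?_
    rw [Module.supportDim_quotient_eq_ringKrullDim, hdim]
    exact Nat.cast_lt.2 h
  haveI : IsLocalRing (A ⧸ P.asIdeal) := .of_surjective' (Ideal.Quotient.mk P.asIdeal) Ideal.Quotient.mk_surjective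
  haveI : IsAdicComplete (J.map (algebraMap A (A ⧸ P.asIdeal))) (A ⧸ P.asIdeal) :=
    (IsAdicComplete.map_algebraMap_iff _ _).2 Groth.AdicLinTop.Adic.isAdicComplete_of_finite
  have hpos : 0 < ringKrullDim ((A ⧸ P.asIdeal) ⧸ J.map (algebraMap A (A ⧸ P.asIdeal))) := by
    rw [Ideal.Quotient.algebraMap_eq, HLVT.quotient_quotient_dim]
    by_contra hlt
    refine hy fun y hPy hJy => PrimeSpectrum.ext ?_
    have hne : J ⊔ P.asIdeal ≠ ⊤ := ne_top_of_le_ne_top y.2.ne_top (sup_le hJy hPy)
    have hr := DimCd.radical_eq_maximalIdeal hne (not_lt.1 hlt)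
    refine le_antisymm (le_maximalIdeal y.2.ne_top) ?_
    show maximalIdeal A ≤ y.asIdeal
    rw [← (maximalIdeal.isMaximal A).isPrime.radical, ← hr]
    exact y.2.radical_le_iff.2 (sup_le hJy hPy)
  haveI := subsingleton_H_top (A := A ⧸ P.asIdeal) (J.map (algebraMap A (A ⧸ P.asIdeal))) hdim hpos
  obtain ⟨ψ, -⟩ := exists_restrict_addEquiv (R := A) (R' := A ⧸ P.asIdeal) J (A ⧸ P.asIdeal) n
  exact ψ.symm.toEquiv.subsingleton

omit [IsLocalRing A] in
/-- Vanishing by dévissage over the support. -/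
theorem subsingleton_H_of_primes (J : Ideal A) (i : ℕ) (X : Type u) [AddCommGroup X] [Module A X]
    [Module.Finite A X] (h : ∀ P ∈ Module.support A X, Subsingleton (LocCoh.H J i (A ⧸ P.asIdeal))) :
    Subsingleton (LocCoh.H J i X) := by
  revert h
  induction ‹Module.Finite A X› using IsNoetherianRing.induction_on_isQuotientEquivQuotientPrime A with
  | subsingleton N =>
    intro _
    refine subsingleton_of_forall_eq 0 fun x => ?_
    have h1 : (𝟙 (ModuleCat.of A N)) = 0 := by
      ext m
      exact Subsingleton.elim _ _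
    rw [← Groth.LocCohTransform.map_id' J i (ModuleCat.of A N) x, h1, Groth.LocCohTransform.map_zero']
  | quotient N p e =>
    intro h
    haveI := h p (by rw [e.support_eq, Module.mem_support_iff_of_finite, Ideal.annihilator_quotient])
    exact ((localCohomology J i).mapIso e.toModuleIso).toLinearEquiv.toEquiv.subsingleton
  | exact N₁ N₂ N₃ f g hf hg hfg h1 h3 =>
    intro h
    exact Groth.LocCohBase.subsingleton_X₂ (I := J) (GrothGoren.seqCx_shortExact f g hfg hf hg) i
      (h1 fun P hP => h P (Module.support_subset_of_injective f hf hP))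
      (h3 fun P hP => h P (Module.support_subset_of_surjective g hg hP))

include hω in
/-- The degrees on the support of `Hom(N, ω⟦t⟧)` outside `V(J)`. -/
theorem exists_bound (J : Ideal A) [IsAdicComplete J A] (d : ℕ) (hd : LocCoh.CdLE A J d) (N : Type u)
    [AddCommGroup N] [Module A N] [Module.Finite A N] (s : ℕ) (hN : DepthCond J N s d) (t : ℤ)
    (P : PrimeSpectrum A) (hP : P ∈ Module.support A (Dual.inD A N ⟶ ω⟦t⟧)) (hJP : ¬ J ≤ P.asIdeal) :
    1 ≤ d ∧ ∃ n δ : ℕ, 1 ≤ n ∧ degree hω (closedPoint A) = degree hω P + n ∧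
      t = degree hω (closedPoint A) - n - δ ∧
      ((∀ y : PrimeSpectrum A, P ≤ y → J ≤ y.asIdeal → y = closedPoint A) → s < δ) ∧
      (n = 1 → s < δ) ∧ (s ≤ δ ∨ d + s < δ + n) := by
  have hle : P ≤ closedPoint A := le_maximalIdeal P.2.ne_top
  obtain ⟨n, hn⟩ := DualDegree.exists_degree_eq hω hle
  obtain ⟨δ, hδ, hdep⟩ := DualVanishing.exists_depth_le hω N P t hP
  obtain ⟨h1, h2⟩ := hN P hJP
  have hn1 : 1 ≤ n := by
    have hlt : P < closedPoint A := lt_of_le_of_ne hle fun he => hJP (by
      rw [he]; exact le_maximalIdeal_of_complete J)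
    have := DualDegree.degree_strictMono hω hlt
    omega
  have h1' : (∀ y : PrimeSpectrum A, P ≤ y → J ≤ y.asIdeal → y = closedPoint A) → s < δ := fun hy => by
    have := (h1 hy).trans_le hdep
    exact_mod_cast this
  refine ⟨?_, n, δ, hn1, hn, by omega, h1', fun h => h1' fun y hPy hJy => ?_, ?_⟩
  · obtain ⟨R, hPR, hJR, hdim⟩ := AlgebraizeApply.exists_dimBetween_le J d hd P
    obtain ⟨k, hk⟩ := DualDegree.exists_degree_eq hω hPR
    rw [DualDegree.dimBetween hω hPR hk] at hdim
    have hkd : k ≤ d := by exact_mod_cast hdim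
    have hlt : P < R := lt_of_le_of_ne hPR fun he => hJP (by rw [he]; exact hJR)
    have := DualDegree.degree_strictMono hω hlt
    omega
  · have hlt : P < y := lt_of_le_of_ne hPy fun he => hJP (by rw [he]; exact hJy)
    by_contra hne
    have := DualDegree.degree_strictMono hω hlt
    have := DualDegree.degree_strictMono hω
      (lt_of_le_of_ne (show y ≤ closedPoint A from le_maximalIdeal y.2.ne_top) hne)
    omega
  · rcases h2 with h | h
    · have := h.trans hdep
      exact Or.inl (by exact_mod_cast this)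
    · rw [DualDegree.dimBetween hω hle hn] at h
      have := lt_of_lt_of_le h (add_le_add (WithBot.coe_le_coe.2 hdep) le_rfl)
      exact Or.inr (by exact_mod_cast this)

/-- Naturality of `single j = single 0 ⟦-j⟧`. -/
noncomputable def singleIso (j : ℤ) : DerivedCategory.singleFunctor (ModuleCat.{u} A) 0 ⋙
    CategoryTheory.shiftFunctor (Dual.D A) (-j) ≅ CochainComplex.singleFunctor (ModuleCat.{u} A) j ⋙ DerivedCategory.Q :=
  (DerivedCategory.singleFunctors (ModuleCat.{u} A)).shiftIso (-j) j 0 (neg_add_cancel j) ≪≫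
    DerivedCategory.singleFunctorIsoCompQ (ModuleCat.{u} A) j

include hω in
/-- Classes of degree `j` die on a power of `J`. -/
theorem eq_zero_of_depthCond (J : Ideal A) [IsAdicComplete J A] (d : ℕ) (hd : LocCoh.CdLE A J d) (N : Type u)
    [AddCommGroup N] [Module A N] [Module.Finite A N] (s : ℕ) (hN : DepthCond J N s d) (j : ℤ)
    (hj : degree hω (closedPoint A) - (s + 1) ≤ j) (e : Dual.inD A N ⟶ ω⟦j⟧) :
    ∃ k : ℕ, inDmap (J ^ k • (⊤ : Submodule A N) : Submodule A N).subtype ≫ e = 0 := by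
  classical
  obtain ⟨a₀, b₀, hab⟩ := hω.finite_injective_dimension
  obtain ⟨r⟩ := exists_injRep ω a₀ b₀ hab
  obtain ⟨F, hF, hFb, ⟨eF⟩⟩ := AlgebraizeMain.exists_resolution (A := A) N
  have hIz : ∀ q, q < r.a → IsZero (r.I.X q) := fun q hq =>
    haveI := r.hGE
    CochainComplex.isZero_of_isStrictlyGE r.I r.a q hq
  haveI := AlgebraizeRHom.isKInjective_homCx r F 0 hFb fun p => (hF p).2
  have eH : ∀ t, Nonempty (Dual.HD A (AlgebraizeRHom.Z r F) t ≃ₗ[A] (Dual.inD A N ⟶ ω⟦t⟧)) := fun t => by
    obtain ⟨e'⟩ := AlgebraizeRHom.nonempty_HD_Z r F t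
    exact ⟨e'.trans (Linear.homCongr A eF (Iso.refl _))⟩
  obtain ⟨lo, hi, hb⟩ := DualAvoid.exists_degree_bounds hω N
  haveI : DerivedCategory.IsGE (AlgebraizeRHom.Z r F) lo := CompletionAmplitude.isGE_of_subsingleton _ _ fun t ht => by
    obtain ⟨e'⟩ := eH t
    haveI := hb t fun hm => absurd hm.1 (not_le.2 ht)
    exact e'.toEquiv.subsingleton
  haveI : DerivedCategory.IsLE (AlgebraizeRHom.Z r F) hi := CompletionAmplitude.isLE_of_subsingleton _ _ fun t ht => by
    obtain ⟨e'⟩ := eH t
    haveI := hb t fun hm => absurd hm.2 (not_le.2 ht)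
    exact e'.toEquiv.subsingleton
  have hdies : Dies J j (AlgebraizeRHom.Z r F) := by
    refine dies_of_cohomology J j _ lo hi fun t => ?_
    obtain ⟨e'⟩ := eH t
    haveI := DualVanishing.finite_hom hω N t
    haveI : Module.Finite A (Dual.HD A (AlgebraizeRHom.Z r F) t) := Module.Finite.equiv e'.symm
    by_cases ht : 0 < j - t
    · refine Or.inr ⟨ht, fun c hc => subsingleton_H_of_primes J (c + 1) _ fun P hP => ?_⟩
      rw [e'.support_eq] at hP
      by_cases hJP : J ≤ P.asIdeal
      · exact Groth.LocCohBase.subsingleton_succ_of_isPowerTorsion J c _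
          (AlgebraizeMain.isPowerTorsion_quotient hJP)
      · obtain ⟨-, n, δ, hn1, hn, ht', h1, -, h2⟩ := exists_bound hω J d hd N s hN t P hP hJP
        refine subsingleton_H_prime hω J d hd P _ n hn ?_
        by_cases hy : ∀ y : PrimeSpectrum A, P ≤ y → J ≤ y.asIdeal → y = closedPoint A
        · have := h1 hy
          exact Or.inr (Or.inl (by omega))
        · rcases h2 with h2 | h2
          · rcases (show n ≤ c + 1 by omega).lt_or_eq with h3 | h3
            · exact Or.inr (Or.inl h3)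
            · exact Or.inr (Or.inr ⟨h3, hy⟩)
          · exact Or.inl (by omega)
    · refine Or.inl ⟨?_, fun c hc hc' => absurd hc' (by omega)⟩
      refine (Groth.LocCohTransform.RgammaTorsion.isPowerTorsion_of_linearEquiv J e'.symm) ?_
      have hsupp : ∀ P ∈ Module.support A (Dual.inD A N ⟶ ω⟦t⟧), J ≤ P.asIdeal := fun P hP => by
        by_contra hJP
        obtain ⟨hd1, n, δ, hn1, hn, ht', -, h1, h2⟩ := exists_bound hω J d hd N s hN t P hP hJP
        rcases h2 with h2 | h2
        · rcases eq_or_lt_of_le hn1 with h3 | h3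
          · have := h1 h3.symm; omega
          · omega
        · omega
      obtain ⟨k, hk⟩ := Ideal.exists_pow_le_of_le_radical_of_fg
        (show J ≤ (Module.annihilator A (Dual.inD A N ⟶ ω⟦t⟧)).radical by
          rw [Ideal.radical_eq_sInf]
          exact le_sInf fun P ⟨hP1, hP2⟩ => hsupp ⟨P, hP2⟩ (Module.mem_support_iff_of_finite.2 hP1))
        (IsNoetherian.noetherian J)
      exact fun x => ⟨k, fun a ha => Module.mem_annihilator.1 (hk ha) x⟩
  let sω := ((DerivedCategory.Q (C := ModuleCat.{u} A)).commShiftIso j).app r.I ≪≫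
    (CategoryTheory.shiftFunctor (Dual.D A) j).mapIso r.iso
  obtain ⟨zc, hzc⟩ := RHomDual.θ_surjective (eF.hom ≫ e ≫ sω.inv)
  let Zc := DRing.homCx F r.I
  let φ : (HomologicalComplex.single _ (ComplexShape.up ℤ) j).obj (ModuleCat.of A ↥(J ^ 0)) ⟶ Zc :=
    HomologicalComplex.mkHomFromSingle
      (ModuleCat.ofHom ((LinearMap.toSpanSingleton A _ (zc : Cochain F r.I j)) ∘ₗ (J ^ 0).subtype)) (by
        intro i hi
        obtain rfl : j + 1 = i := hi
        refine ModuleCat.hom_ext (LinearMap.ext fun x => ?_)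
        refine ((Zc.d j (j + 1)).hom.map_smul x.1 _).trans
          ((congrArg (x.1 • ·) (Cocycle.δ_eq_zero zc (j + 1))).trans ?_)
        exact smul_zero (A := Cochain F r.I (j + 1)) x.1)
  obtain ⟨k, hk0, hk⟩ := hdies 0 ((singleIso j).hom.app (ModuleCat.of A ↥(J ^ 0)) ≫ DerivedCategory.Q.map φ)
  let inc : ModuleCat.of A ↥(J ^ k) ⟶ ModuleCat.of A ↥(J ^ 0) := ModuleCat.ofHom (incPow J hk0)
  let g := (CochainComplex.singleFunctor (ModuleCat.{u} A) j).map inc ≫ φ
  have hg : DerivedCategory.Q.map g = 0 := by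
    rw [Functor.map_comp]
    refine (cancel_epi ((singleIso j).hom.app (ModuleCat.of A ↥(J ^ k)))).1 ?_
    refine (Category.assoc _ _ _).symm.trans ((congrArg (· ≫ DerivedCategory.Q.map φ)
      ((singleIso j).hom.naturality inc).symm).trans ((Category.assoc _ _ _).trans ?_))
    exact hk.trans comp_zero.symm
  obtain ⟨H⟩ := homotopy_of_Q_map_eq_zero hg
  let s₁ := HomologicalComplex.singleObjXSelf (ComplexShape.up ℤ) j (ModuleCat.of A ↥(J ^ k))
  let bk : ↥(J ^ k) →ₗ[A] Zc.X (j - 1) := (s₁.inv ≫ H.hom j (j - 1)).hom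
  have hbk : ∀ x : ↥(J ^ k), (Zc.d (j - 1) j).hom (bk x) = x.1 • (zc : Cochain F r.I j) := by
    intro x
    have hc := H.comm j
    rw [dNext_eq _ (show (ComplexShape.up ℤ).Rel j (j + 1) from rfl),
      prevD_eq _ (show (ComplexShape.up ℤ).Rel (j - 1) j by simp)] at hc
    have hd0 : ((CochainComplex.singleFunctor (ModuleCat.{u} A) j).obj (ModuleCat.of A ↥(J ^ k))).d j (j + 1) = 0 :=
      rfl
    rw [hd0, zero_comp, zero_add, HomologicalComplex.zero_f, add_zero] at hc
    have hf : s₁.inv ≫ g.f j = inc ≫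
        ModuleCat.ofHom ((LinearMap.toSpanSingleton A _ (zc : Cochain F r.I j)) ∘ₗ (J ^ 0).subtype) := by
      show s₁.inv ≫ ((HomologicalComplex.single _ (ComplexShape.up ℤ) j).map inc ≫ φ).f j = _
      rw [HomologicalComplex.comp_f, HomologicalComplex.single_map_f_self]
      simp [φ, s₁, HomologicalComplex.mkHomFromSingle_f]
      rfl
    exact (LinearMap.congr_fun (congrArg ModuleCat.Hom.hom (congrArg (s₁.inv ≫ ·) hc)) x).symm.trans
      (LinearMap.congr_fun (congrArg ModuleCat.Hom.hom hf) x)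
  obtain ⟨gb, hgb⟩ := Module.Baer.of_injective
    (DualTransfer.moduleInjective_homCx F r.I (fun p => (hF p).2) r.injective (j - 1)) (J ^ k) bk
  let w : Cochain F r.I (j - 1) := gb 1
  let y : Cocycle F r.I j := zc - Cocycle.mk (δ (j - 1) j w) (j + 1) rfl (δ_δ _ _ _ w)
  have hy : RHomDual.θ y = RHomDual.θ zc := by
    rw [show RHomDual.θ y = _ from map_sub _ _ _, sub_eq_self]
    exact (RHomDual.θ_eq_zero_iff (j - 1) (by omega) _).2 ⟨w, rfl⟩
  have hyk : ∀ x ∈ J ^ k, x • (y : Cochain F r.I j) = 0 := fun x hx => by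
    have h1 : gb x = x • gb 1 := by rw [← map_smul, smul_eq_mul, mul_one]
    have h2 := hbk ⟨x, hx⟩
    rw [← hgb x hx, h1, map_smul] at h2
    show x • ((zc : Cochain F r.I j) - δ (j - 1) j w) = 0
    rw [smul_sub, sub_eq_zero]
    exact h2.symm
  let y' : Cochain F ((gam J).obj r.I) j := Cochain.mk fun p q h =>
    ModuleCat.ofHom (LinearMap.codRestrict (DRing.torsionSub J (r.I.X q)) (((y : Cochain F r.I j)).v p q h).hom
      fun v => ⟨k, fun x hx => by
        have := LinearMap.congr_fun (congrArg ModuleCat.Hom.hom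
          (congrArg (fun c : Cochain F r.I j => c.v p q h) (hyk x hx))) v
        exact this⟩)
  have hy' : y'.comp (Cochain.ofHom (incl J r.I)) (add_zero j) = (y : Cochain F r.I j) := by
    ext p q h
    simp only [Cochain.comp_zero_cochain_v, Cochain.ofHom_v, y', Cochain.mk_v]
    rfl
  have hy'0 : δ j (j + 1) y' = 0 := by
    have h1 : (δ j (j + 1) y').comp (Cochain.ofHom (incl J r.I)) (add_zero (j + 1)) = 0 := by
      rw [← δ_comp_ofHom, hy', Cocycle.δ_eq_zero]
    ext p q h v
    have h2 := LinearMap.congr_fun (congrArg ModuleCat.Hom.hom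
      (congrArg (fun c : Cochain F r.I (j + 1) => c.v p q h) h1)) v
    simp only [Cochain.comp_zero_cochain_v, Cochain.ofHom_v, Cochain.zero_v] at h2
    exact Subtype.ext h2
  let y'' : Cocycle F ((gam J).obj r.I) j := Cocycle.mk y' (j + 1) rfl hy'0
  have hpost : y''.postcomp (incl J r.I) = y := Subtype.ext hy'
  haveI : ((gam J).obj r.I).IsStrictlyGE r.a := by
    rw [CochainComplex.isStrictlyGE_iff]
    exact fun q hq => (DRing.gammaI J).map_isZero (hIz q hq)
  haveI : ∀ q, Injective (((gam J).obj r.I).X q) :=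
    RgammaTorsion.injective_gam J r.I fun q => (Module.injective_iff_injective_object A (r.I.X q)).1 (r.injective q)
  haveI : ((gam J).obj r.I).IsKInjective := CochainComplex.isKInjective_of_injective _ r.a
  let sN := (DerivedCategory.singleFunctorIsoCompQ (ModuleCat.{u} A) 0)
  obtain ⟨z₂, hz₂⟩ := RHomDual.θ_surjective ((sN.inv.app (ModuleCat.of A N)) ≫ eF.inv ≫ RHomDual.θ y'')
  obtain ⟨l, hl⟩ : ∃ l : ℕ, ∀ a ∈ J ^ l, ∀ v, a •
      ((z₂ : Cochain ((CochainComplex.singleFunctor (ModuleCat.{u} A) 0).obj (ModuleCat.of A N))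
        ((gam J).obj r.I) j).v 0 j (zero_add j)).hom v = 0 := by
    haveI : Module.Finite A (((CochainComplex.singleFunctor (ModuleCat.{u} A) 0).obj (ModuleCat.of A N)).X 0) :=
      Module.Finite.equiv (HomologicalComplex.singleObjXSelf (ComplexShape.up ℤ) 0
        (ModuleCat.of A N)).toLinearEquiv.symm
    let f := ((z₂ : Cochain ((CochainComplex.singleFunctor (ModuleCat.{u} A) 0).obj (ModuleCat.of A N))
      ((gam J).obj r.I) j).v 0 j (zero_add j)).hom
    obtain ⟨l, hl⟩ := Groth.LocFinite.exists_pow_killing J f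
      (fun v => Groth.LocCohBase.isPowerTorsion_torsionSub J (r.I.X j) (f v))
    exact ⟨l, fun a ha v => LinearMap.congr_fun (hl a ha) v⟩
  refine ⟨l, ?_⟩
  let sub : ModuleCat.of A ↥(J ^ l • (⊤ : Submodule A N) : Submodule A N) ⟶ ModuleCat.of A N :=
    ModuleCat.ofHom (J ^ l • (⊤ : Submodule A N) : Submodule A N).subtype
  let gs := (CochainComplex.singleFunctor (ModuleCat.{u} A) 0).map sub
  have hz : z₂.precomp gs = 0 := by
    refine Subtype.ext (Cochain.ext _ _ fun p q h => ?_)
    by_cases hp : p = 0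
    · subst hp
      obtain rfl : j = q := by omega
      refine ModuleCat.hom_ext (LinearMap.ext fun v => ?_)
      show (((Cochain.ofHom gs).comp (z₂ : Cochain _ ((gam J).obj r.I) j) (zero_add j)).v 0 j h).hom v = 0
      rw [Cochain.zero_cochain_comp_v, Cochain.ofHom_v]
      show ((z₂ : Cochain _ ((gam J).obj r.I) j).v 0 j h).hom ((gs.f 0).hom v) = 0
      obtain ⟨⟨v, hv⟩, rfl⟩ := (HomologicalComplex.singleObjXSelf (ComplexShape.up ℤ) 0
        (ModuleCat.of A ↥(J ^ l • (⊤ : Submodule A N) : Submodule A N))).toLinearEquiv.symm.surjective v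
      have hgs : (gs.f 0).hom ((HomologicalComplex.singleObjXSelf (ComplexShape.up ℤ) 0 (ModuleCat.of A ↥(J ^ l • (⊤ : Submodule A N) : Submodule A N))).inv.hom ⟨v, hv⟩) =
          (HomologicalComplex.singleObjXSelf (ComplexShape.up ℤ) 0 (ModuleCat.of A N)).inv.hom v := by
        exact congrArg (fun f => f.hom (⟨v, hv⟩ : ↥(J ^ l • (⊤ : Submodule A N) : Submodule A N)))
          ((Iso.inv_comp_eq _).2 (HomologicalComplex.single_map_f_self (c := ComplexShape.up ℤ) 0 sub))
      refine (congrArg _ hgs).trans ?_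
      clear hgs
      refine Submodule.smul_induction_on hv (fun a ha m _ => ?_) fun m m' hm hm' => ?_
      · rw [map_smul]
        exact (LinearMap.map_smul _ a _).trans (hl a ha _)
      · rw [map_add]
        exact (LinearMap.map_add _ _ _).trans ((congrArg₂ (· + ·) hm hm').trans (add_zero _))
    · exact (HomologicalComplex.isZero_single_obj_X (ComplexShape.up ℤ) 0 _ p hp).eq_of_src _ _
  have hθ : DerivedCategory.Q.map gs ≫ RHomDual.θ z₂ = RHomDual.θ (z₂.precomp gs) := by
    show _ ≫ DerivedCategory.Q.map _ = DerivedCategory.Q.map (Cocycle.equivHomShift.symm (z₂.precomp gs))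
    rw [Cocycle.equivHomShift_symm_precomp, Functor.map_comp]
    rfl
  have h0 : inDmap (J ^ l • (⊤ : Submodule A N) : Submodule A N).subtype ≫ eF.inv ≫ RHomDual.θ y'' = 0 := by
    rw [hz, map_zero, hz₂] at hθ
    rw [← cancel_epi (sN.inv.app (ModuleCat.of A ↥(J ^ l • (⊤ : Submodule A N) : Submodule A N))), comp_zero]
    refine (Category.assoc _ _ _).symm.trans ((congrArg (· ≫ (eF.inv ≫ RHomDual.θ y''))
      (sN.inv.naturality sub).symm).trans ((Category.assoc _ _ _).trans hθ))
  have he : e = eF.inv ≫ RHomDual.θ zc ≫ sω.hom := by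
    rw [hzc]
    simp
  rw [he, ← hy, ← hpost, AlgebraizeRHom.postcomp_θ, Category.assoc, ← Category.assoc (inDmap _),
    ← Category.assoc, Category.assoc (inDmap _), h0, zero_comp]

end Groth.SuppCx.ProZero
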